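import Groth.Agent.GeomField.Field
import Groth.Agent.GeomField.Irreducible
import Groth.Agent.GeomField.Connected
import Mathlib.FieldTheory.AlgebraicClosure
import Mathlib.FieldTheory.PrimitiveElement

/-! The geometric components over an irreducible subset. -/

noncomputable section

set_option linter.unusedSectionVars false
set_option linter.style.haveILetI false
set_option backward.isDefEq.respectTransparency false

universe u

open CategoryTheory CategoryTheory.Limits AlgebraicGeometry TensorProduct

namespace Groth.Agent.ZH85.LangWeil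

theorem eq_zero_or_of_isDomain {R : Type u} [CommRing R] [IsDomain R] {a b : R} (h : a * b = 0) :
    a = 0 ∨ b = 0 := mul_eq_zero.mp h

/-- The tensor product with an algebraic extension of the constants is a domain. -/
theorem isDomain_tensor_algebraic (k E K : Type u) [Field k] [PerfectField k] [Field E] [Algebra k E]
    [Field K] [Algebra k K] [Algebra.IsAlgebraic k K]
    (hcl : ∀ a : E, IsIntegral k a → a ∈ Set.range (algebraMap k E)) : IsDomain (E ⊗[k] K) := by
  classical
  let ι : ∀ F : IntermediateField k K, E ⊗[k] F →ₐ[k] E ⊗[k] K := fun F =>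
    Algebra.TensorProduct.map (AlgHom.id k E) F.val
  have hι : ∀ F, Function.Injective (ι F) := fun F =>
    TensorProduct.map_injective_of_flat_flat (AlgHom.id k E).toLinearMap F.val.toLinearMap
      Function.injective_id F.val.injective
  have hmono : ∀ {F F' : IntermediateField k K} (h : F ≤ F') (w : E ⊗[k] F),
      ∃ w' : E ⊗[k] F', ι F' w' = ι F w := fun {F F'} h w => by
    refine ⟨Algebra.TensorProduct.map (AlgHom.id k E) (IntermediateField.inclusion h) w, ?_⟩
    rw [← AlgHom.comp_apply, ← Algebra.TensorProduct.map_comp]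
    rfl
  have hlift : ∀ z : E ⊗[k] K, ∃ F : IntermediateField k K, FiniteDimensional k F ∧ ∃ w, ι F w = z := by
    intro z
    induction z using TensorProduct.induction_on with
    | zero => exact ⟨⊥, inferInstance, 0, map_zero _⟩
    | tmul a b =>
      exact ⟨_, IntermediateField.adjoin.finiteDimensional (Algebra.IsIntegral.isIntegral b),
        a ⊗ₜ[k] ⟨b, IntermediateField.mem_adjoin_simple_self k b⟩, rfl⟩
    | add z z' hz hz' =>
      obtain ⟨F, hF, w, rfl⟩ := hz
      obtain ⟨F', hF', w', rfl⟩ := hz'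
      obtain ⟨v, hv⟩ := hmono (le_sup_left : F ≤ F ⊔ F') w
      obtain ⟨v', hv'⟩ := hmono (le_sup_right : F' ≤ F ⊔ F') w'
      exact ⟨F ⊔ F', inferInstance, v + v', by rw [map_add, hv, hv']⟩
  haveI : Nontrivial (E ⊗[k] K) := inferInstance
  haveI : NoZeroDivisors (E ⊗[k] K) := ⟨fun {a b} hab => by
    obtain ⟨F, hF, w, rfl⟩ := hlift a
    obtain ⟨F', hF', w', rfl⟩ := hlift b
    obtain ⟨v, hv⟩ := hmono (le_sup_left : F ≤ F ⊔ F') w
    obtain ⟨v', hv'⟩ := hmono (le_sup_right : F' ≤ F ⊔ F') w'
    rw [← hv, ← hv'] at hab ⊢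
    haveI : Algebra.IsSeparable k (F ⊔ F' : IntermediateField k K) := inferInstance
    haveI : IsDomain (E ⊗[k] (F ⊔ F' : IntermediateField k K)) :=
      GeomField.isDomain_tensor_of_separable _ E fun x hx => hcl x hx.isIntegral
    have h0 : v * v' = 0 := hι _ (by rw [map_mul, hab, map_zero])
    rcases eq_zero_or_of_isDomain (R := E ⊗[k] (F ⊔ F' : IntermediateField k K)) h0 with h | h
    · exact Or.inl (by rw [h, map_zero])
    · exact Or.inr (by rw [h, map_zero])⟩
  exact NoZeroDivisors.to_isDomain _

section Count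

variable (k L kb : Type u) [Field k] [PerfectField k] [Field L] [Algebra k L] [Field kb] [Algebra k kb]
  [Algebra.IsAlgebraic k kb] [IsAlgClosed kb] [FiniteDimensional k (algebraicClosure k L)]

/-- As many geometric points as the degree of the field of constants. -/
theorem card_primeSpectrum_tensor :
    Nat.card (PrimeSpectrum (L ⊗[k] kb)) = Module.finrank k (algebraicClosure k L) := by
  classical
  let KL := algebraicClosure k L
  suffices h : ∃ Φ : (KL →ₐ[k] kb) → PrimeSpectrum (L ⊗[k] kb), Function.Bijective Φ by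
    obtain ⟨Φ, hΦ⟩ := h
    rw [← Nat.card_eq_of_bijective Φ hΦ, Nat.card_eq_fintype_card, AlgHom.card k KL kb]
  -- the point attached to an embedding of the constants
  have key : ∀ τ : KL →ₐ[k] kb, ∃ Q : PrimeSpectrum (L ⊗[k] kb),
      (∀ c : KL, (c : L) ⊗ₜ[k] (1 : kb) - 1 ⊗ₜ[k] τ c ∈ Q.asIdeal) ∧
      ∀ Q' : PrimeSpectrum (L ⊗[k] kb),
        (∀ c : KL, (c : L) ⊗ₜ[k] (1 : kb) - 1 ⊗ₜ[k] τ c ∈ Q'.asIdeal) → Q' = Q := by
    intro τ
    letI : Algebra KL kb := τ.toRingHom.toAlgebra
    haveI : IsScalarTower k KL kb := IsScalarTower.of_algebraMap_eq fun c => (τ.commutes c).symm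
    haveI : Algebra.IsAlgebraic KL kb := Algebra.IsAlgebraic.tower_top (K := k) KL
    haveI : Algebra.IsAlgebraic k KL := algebraicClosure.isAlgebraic k L
    haveI : PerfectField KL := Algebra.IsAlgebraic.perfectField (K := k)
    haveI : IsDomain (L ⊗[KL] kb) := isDomain_tensor_algebraic KL L kb fun a ha =>
      ⟨⟨a, (isIntegral_trans a ha : IsIntegral k a)⟩, rfl⟩
    have hfield : IsField (L ⊗[KL] kb) :=
      isField_of_isIntegral_of_isField' (R := L) (Field.toIsField L)
    let π : L ⊗[k] kb →ₐ[k] L ⊗[KL] kb :=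
      Algebra.TensorProduct.lift ((Algebra.TensorProduct.includeLeft : L →ₐ[KL] L ⊗[KL] kb).restrictScalars k)
        ((Algebra.TensorProduct.includeRight : kb →ₐ[KL] L ⊗[KL] kb).restrictScalars k) fun _ _ => Commute.all _ _
    have hπ : ∀ (a : L) (b : kb), π (a ⊗ₜ[k] b) = a ⊗ₜ[KL] b := fun a b => by
      simp [π, Algebra.TensorProduct.tmul_mul_tmul]
    refine ⟨⟨RingHom.ker π.toRingHom, RingHom.ker_isPrime _⟩, fun c => ?_, fun Q' hQ' => ?_⟩
    · show π _ = 0
      rw [map_sub, hπ, hπ, sub_eq_zero, show (c : L) = c • (1 : L) from (mul_one _).symm, smul_tmul,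
        Algebra.smul_def, mul_one]
      rfl
    · let Ω := FractionRing ((L ⊗[k] kb) ⧸ Q'.asIdeal)
      let φ : L ⊗[k] kb →+* Ω := (algebraMap _ Ω).comp (Ideal.Quotient.mk Q'.asIdeal)
      have hφ : ∀ w, φ w = 0 ↔ w ∈ Q'.asIdeal := fun w => by
        show algebraMap _ Ω (Ideal.Quotient.mk Q'.asIdeal w) = 0 ↔ _
        rw [map_eq_zero_iff _ (IsFractionRing.injective _ _), Ideal.Quotient.eq_zero_iff_mem]
      let φL : L →+* Ω := φ.comp Algebra.TensorProduct.includeLeftRingHom
      let φb : kb →+* Ω := φ.comp (Algebra.TensorProduct.includeRight (R := k) (A := L)).toRingHom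
      have halg : ∀ c : KL, algebraMap KL Ω c = φ ((c : L) ⊗ₜ[k] 1) := fun c => rfl
      let gL : L →ₐ[KL] Ω := { φL with commutes' := fun _ => rfl }
      have hgb : ∀ c : KL, φb (algebraMap KL kb c) = algebraMap KL Ω c := fun c => by
        have := (hφ _).mpr (hQ' c)
        rw [map_sub, sub_eq_zero] at this
        exact this.symm
      let gb : kb →ₐ[KL] Ω := { φb with commutes' := hgb }
      let g : L ⊗[KL] kb →ₐ[KL] Ω := Algebra.TensorProduct.lift gL gb fun _ _ => Commute.all _ _
      have hg : ∀ w, g (π w) = φ w := fun w => by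
        induction w using TensorProduct.induction_on with
        | zero => simp
        | tmul a b =>
          rw [hπ, Algebra.TensorProduct.lift_tmul]
          show φ (a ⊗ₜ[k] 1) * φ (1 ⊗ₜ[k] b) = _
          rw [← map_mul, Algebra.TensorProduct.tmul_mul_tmul, mul_one, one_mul]
        | add v w hv hw => rw [map_add, map_add, hv, hw, map_add]
      refine PrimeSpectrum.ext (Ideal.ext fun w => ?_)
      rw [← hφ, ← hg]
      refine ⟨fun h => ?_, fun h => by rw [show π w = 0 from h, map_zero]⟩
      show π w = 0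
      by_contra hne
      letI := hfield.toField
      exact hne (g.toRingHom.injective (h.trans (map_zero _).symm))
  choose Φ hΦ hΦu using key
  refine ⟨Φ, fun τ τ' h => AlgHom.ext fun c => ?_, fun Q => ?_⟩
  · have h1 := hΦ τ c
    rw [h] at h1
    have h2 := Ideal.sub_mem _ h1 (hΦ τ' c)
    rw [sub_sub_sub_cancel_left, ← TensorProduct.tmul_sub] at h2
    by_contra hne
    refine (Φ τ').isPrime.ne_top (Ideal.eq_top_of_isUnit_mem _ h2 ?_)
    exact ((sub_ne_zero.mpr (Ne.symm hne)).isUnit).map (Algebra.TensorProduct.includeRight (R := k) (A := L))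
  · let Ω := FractionRing ((L ⊗[k] kb) ⧸ Q.asIdeal)
    let φ : L ⊗[k] kb →ₐ[k] Ω := (IsScalarTower.toAlgHom k _ Ω).comp (Ideal.Quotient.mkₐ k Q.asIdeal)
    let φb : kb →ₐ[k] Ω := φ.comp Algebra.TensorProduct.includeRight
    letI : Algebra kb Ω := φb.toRingHom.toAlgebra
    haveI : IsScalarTower k kb Ω := IsScalarTower.of_algebraMap_eq fun c => (φb.commutes c).symm
    have hroot : ∀ c : KL, ∃ a : kb, φb a = φ ((c : L) ⊗ₜ[k] 1) := fun c => by
      have hint : IsIntegral k (φ ((c : L) ⊗ₜ[k] 1)) :=
        (show IsIntegral k (c : L) from c.2).map (φ.comp Algebra.TensorProduct.includeLeft)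
      have hint' : IsIntegral kb (φ ((c : L) ⊗ₜ[k] 1)) := hint.tower_top
      exact minpoly.mem_range_of_degree_eq_one kb _
        (IsAlgClosed.degree_eq_one_of_irreducible kb (minpoly.irreducible hint'))
    choose a ha using hroot
    let τ : KL →ₐ[k] kb :=
      { toFun := a
        map_one' := φb.toRingHom.injective (by
          show φb _ = φb _
          rw [ha, map_one]; exact map_one φ)
        map_mul' := fun u v => φb.toRingHom.injective (by
          show φb _ = φb _
          rw [map_mul, ha, ha, ha, ← map_mul, Algebra.TensorProduct.tmul_mul_tmul, mul_one]; rfl)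
        map_zero' := φb.toRingHom.injective (by
          show φb _ = φb _
          rw [ha, map_zero, ZeroMemClass.coe_zero, zero_tmul, map_zero])
        map_add' := fun u v => φb.toRingHom.injective (by
          show φb _ = φb _
          rw [map_add, ha, ha, ha, ← map_add, ← add_tmul]; rfl)
        commutes' := fun c => φb.toRingHom.injective (by
          show φb _ = φb _
          rw [ha, AlgHom.commutes]
          exact φ.commutes c) }
    refine ⟨τ, (hΦu τ Q fun c => ?_).symm⟩
    have h0 : φ ((c : L) ⊗ₜ[k] 1 - 1 ⊗ₜ[k] τ c) = 0 := by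
      rw [map_sub, sub_eq_zero]
      exact (ha c).symm
    rwa [show φ _ = algebraMap _ Ω (Ideal.Quotient.mk Q.asIdeal _) from rfl,
      map_eq_zero_iff _ (IsFractionRing.injective _ _), Ideal.Quotient.eq_zero_iff_mem] at h0

end Count

section Components

variable {k : Type u} [Field k] {X : Scheme.{u}} [X.Over (Spec (CommRingCat.of k))]

attribute [local instance] Curv2.resAlgebra

variable (K : Type u) [Field K] [Algebra k K]

/-- The components of the preimage of an irreducible component are the points over its generic point. -/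
theorem card_components_preimage [Algebra.IsAlgebraic k K] {Z : Set X}
    (hZ : Z ∈ irreducibleComponents (X : Type u)) {ξ : X} (hξ : IsGenericPoint ξ Z) :
    Nat.card (irreducibleComponents ↥(Curv2.bcFst k X K ⁻¹' Z)) =
      Nat.card (PrimeSpectrum (X.residueField ξ ⊗[k] K)) := by
  classical
  let p := Curv2.bcFst k X K
  let ι := X.fromSpecResidueField ξ
  have hr : p ⁻¹' {ξ} = Set.range (pullback.snd ι p) := by
    rw [Scheme.Pullback.range_snd, Scheme.range_fromSpecResidueField]
  haveI : IsPreimmersion (pullback.snd ι p) := MorphismProperty.pullback_snd _ _ inferInstance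
  have he := (pullback.snd ι p).isEmbedding
  have hcard : Nat.card (PrimeSpectrum (X.residueField ξ ⊗[k] K)) = Nat.card ↥(p ⁻¹' {ξ}) := by
    rw [hr, Nat.card_congr (Equiv.ofInjective _ he.injective).symm]
    exact Nat.card_congr (GeomField.fibreIso (k := k) K ξ).hom.homeomorph.symm.toEquiv
  -- no specializations inside the fibre
  have hanti : ∀ w w' : Curv2.bc k X K, p w = ξ → p w' = ξ → w ⤳ w' → w = w' := by
    intro w w' hw hw' hspec
    obtain ⟨a, rfl⟩ : w ∈ Set.range (pullback.snd ι p) := hr ▸ hw
    obtain ⟨b, rfl⟩ : w' ∈ Set.range (pullback.snd ι p) := hr ▸ hw'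
    rw [he.isInducing.specializes_iff] at hspec
    let e := (GeomField.fibreIso (k := k) K ξ).hom.homeomorph
    have h1 : e a ⤳ e b := hspec.map e.continuous
    let P : PrimeSpectrum (X.residueField ξ ⊗[k] K) := e a
    let Q : PrimeSpectrum (X.residueField ξ ⊗[k] K) := e b
    have hle : P.asIdeal ≤ Q.asIdeal := (PrimeSpectrum.le_iff_specializes P Q).mpr h1
    haveI : Algebra.IsIntegral (X.residueField ξ) (X.residueField ξ ⊗[k] K) := inferInstance
    have hbot : P.asIdeal.comap (algebraMap (X.residueField ξ) (X.residueField ξ ⊗[k] K)) = ⊥ :=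
      (IsSimpleOrder.eq_bot_or_eq_top _).resolve_right (P.isPrime.comap _).ne_top
    have hmax : P.asIdeal.IsMaximal :=
      Ideal.isMaximal_of_isIntegral_of_isMaximal_comap (R := X.residueField ξ) _
        (hbot.symm ▸ Ideal.bot_isMaximal)
    have hPQ : P = Q := PrimeSpectrum.ext (hmax.eq_of_le Q.isPrime.ne_top hle)
    rw [e.injective hPQ]
  have hmaxξ : ∀ x : X, x ∈ Z → x ⤳ ξ → x = ξ := fun x hx hs => (hs.antisymm (hξ.specializes hx)).eq
  have hZc : IsClosed Z := isClosed_of_mem_irreducibleComponents Z hZ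
  have hSc : IsClosed (p ⁻¹' Z) := hZc.preimage p.continuous
  haveI : QuasiSober ↥(p ⁻¹' Z) := hSc.isClosedEmbedding_subtypeVal.quasiSober
  rw [hcard]
  symm
  let g : ↥(p ⁻¹' {ξ}) → ↥(p ⁻¹' Z) := fun w => ⟨w.1, show p w.1 ∈ Z from w.2.symm ▸ hξ.mem⟩
  have hgen : ∀ s : ↥(p ⁻¹' Z), ∃ w, g w ⤳ s := fun s => by
    obtain ⟨w, hws, hw⟩ := GeomField.generalizingMap_bcFst (k := k) K (hξ.specializes s.2)
    exact ⟨⟨w, hw⟩, (Topology.IsInducing.subtypeVal.specializes_iff).mp hws⟩
  have hgmax : ∀ w t, t ⤳ g w → t = g w := fun w t ht => by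
    have h1 : p t.1 = ξ := by
      refine hmaxξ _ t.2 ?_
      have := ((Topology.IsInducing.subtypeVal.specializes_iff).mpr ht).map p.continuous
      rwa [show p (g w).1 = ξ from w.2] at this
    exact Subtype.ext (hanti _ _ h1 w.2 ((Topology.IsInducing.subtypeVal.specializes_iff).mpr ht))
  have hcomp : ∀ w, closure {g w} ∈ irreducibleComponents ↥(p ⁻¹' Z) := fun w => by
    refine ⟨isIrreducible_singleton.closure, fun T hT hle => ?_⟩
    have hTg := hT.isGenericPoint_genericPoint_closure
    have h2 := hgmax w _ (hTg.specializes (subset_closure (hle (subset_closure rfl))))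
    rw [← h2, hTg.def]
    exact subset_closure
  refine Nat.card_eq_of_bijective (fun w => (⟨_, hcomp w⟩ : irreducibleComponents ↥(p ⁻¹' Z))) ⟨fun w w' h => ?_, fun T => ?_⟩
  · have h1 : g w ⤳ g w' := specializes_iff_mem_closure.mpr (by
      rw [show closure {g w} = closure {g w'} from congrArg Subtype.val h]
      exact subset_closure rfl)
    exact Subtype.ext (congrArg (fun s => (s.1 : Curv2.bc k X K)) (hgmax w' _ h1))
  · have hTg := T.2.1.isGenericPoint_genericPoint_closure
    rw [(isClosed_of_mem_irreducibleComponents _ T.2).closure_eq] at hTg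
    obtain ⟨w, hw⟩ := hgen T.2.1.genericPoint
    have hsub : T.1 ⊆ closure {g w} := by
      rw [← hTg.def]
      exact closure_minimal (Set.singleton_subset_iff.mpr hw.mem_closure) isClosed_closure
    exact ⟨w, Subtype.ext (Set.Subset.antisymm (T.2.2 isIrreducible_singleton.closure hsub) hsub)⟩

end Components

end Groth.Agent.ZH85.LangWeil
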