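import Groth.Agent.ZH85.LangWeil.Constants
import Groth.Agent.ZH85.LangWeil.GeomCount
import Groth.Agent.ZH85.PtLow.Abscissa
import Groth.Agent.GeomField.Chart
import Groth.Agent.ZetaLib.PointsOfExt
import Groth.Agent.VarDim.IrredFibres
import Groth.Agent.S13062

/-! Lang–Weil for the components of a scheme of finite type over a finite field. -/

noncomputable section

set_option linter.unusedSectionVars false
set_option linter.style.haveILetI false
set_option backward.isDefEq.respectTransparency false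

universe u

open CategoryTheory CategoryTheory.Limits AlgebraicGeometry

namespace Groth.Agent.ZH85.LangWeil

variable {k : Type u} [Field k] [Finite k] {X : Scheme.{u}} (f : X ⟶ Spec (CommRingCat.of k))

/-- The `F`-points of `X`. -/
abbrev Pts (F : Type u) [Field F] [Algebra k F] : Type u :=
  {g : Spec (CommRingCat.of F) ⟶ X // g ≫ f = Spec.map (CommRingCat.ofHom (algebraMap k F))}

/-- The point underlying an `F`-point. -/
abbrev ptOf {F : Type u} [Field F] [Algebra k F] (g : Pts f F) : X := g.1.base (IsLocalRing.closedPoint F)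

variable [LocallyOfFiniteType f] [QuasiCompact f]

theorem finite_pts (F : Type u) [Field F] [Algebra k F] [Finite F] : Finite (Pts f F) := by
  let ι : Spec (CommRingCat.of k) ⟶ Spec (CommRingCat.of (ULift.{u} ℤ)) :=
    Spec.map (CommRingCat.ofHom ((Int.castRingHom k).comp ULift.ringEquiv.toRingHom))
  have hι : LocallyOfFiniteType ι := by
    rw [HasRingHomProperty.Spec_iff (P := @LocallyOfFiniteType)]
    exact ZetaLib.finiteType_of_finite _
  haveI : CompactSpace X := QuasiCompact.compactSpace_of_compactSpace f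
  haveI : IsLocallyNoetherian X := LocallyOfFiniteType.isLocallyNoetherian f
  haveI : IsNoetherian X := { }
  obtain ⟨p, hp⟩ := CharP.exists k
  obtain ⟨n, hn⟩ : ∃ n : ℕ, topologicalKrullDim X ≤ n := by
    rcases isEmpty_or_nonempty X with h | h
    · exact ⟨0, by rw [VarDim.topologicalKrullDim_eq_iSup_deg f]; exact iSup_le isEmptyElim⟩
    · obtain ⟨η, -, -, hη⟩ := VarDim.exists_deg_eq_topologicalKrullDim f
      exact ⟨_, le_of_eq hη⟩
  obtain ⟨c, p₀, -, h⟩ := ZetaLib.exists_bound (f ≫ ι) n hn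
  haveI : CharP F p := charP_of_injective_algebraMap (algebraMap k F).injective p
  obtain ⟨hfin, -, -⟩ := h p (CharP.char_is_prime k p) F
  exact Subtype.finite

/-- Points inside an affine open are homomorphisms. -/
theorem card_pts_affine {U : X.Opens} (hU : IsAffineOpen U) [Algebra k Γ(X, U)]
    (hover : hU.fromSpec ≫ f = Spec.map (CommRingCat.ofHom (algebraMap k Γ(X, U))))
    (F : Type u) [Field F] [Algebra k F] :
    Nat.card {g : Pts f F // ptOf f g ∈ U} = Nat.card (Γ(X, U) →ₐ[k] F) := by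
  symm
  let toPt : (Γ(X, U) →ₐ[k] F) → {g : Pts f F // ptOf f g ∈ U} := fun φ =>
    ⟨⟨Spec.map (CommRingCat.ofHom φ.toRingHom) ≫ hU.fromSpec, by
        rw [Category.assoc, hover, ← Spec.map_comp, ← CommRingCat.ofHom_comp, AlgHom.toRingHom_eq_coe,
          φ.comp_algebraMap]⟩,
      VarDim.fromSpec_mem hU _⟩
  refine Nat.card_eq_of_bijective toPt ⟨fun φ ψ h => ?_, fun g => ?_⟩
  · have h1 : Spec.map (CommRingCat.ofHom φ.toRingHom) ≫ hU.fromSpec =
        Spec.map (CommRingCat.ofHom ψ.toRingHom) ≫ hU.fromSpec := congrArg (fun g => g.1.1) h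
    exact AlgHom.coe_ringHom_injective (congrArg CommRingCat.Hom.hom (Spec.map_injective ((cancel_mono _).mp h1)))
  · have hrange : Set.range g.1.1 ⊆ Set.range hU.fromSpec := by
      rintro _ ⟨y, rfl⟩
      rw [hU.range_fromSpec, Subsingleton.elim (α := PrimeSpectrum F) y (IsLocalRing.closedPoint F)]
      exact g.2
    obtain ⟨a, ha⟩ := Spec.map_surjective (IsOpenImmersion.lift hU.fromSpec g.1.1 hrange)
    have hfac : Spec.map a ≫ hU.fromSpec = g.1.1 := by rw [ha, IsOpenImmersion.lift_fac]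
    have hcomm : CommRingCat.ofHom (algebraMap k Γ(X, U)) ≫ a = CommRingCat.ofHom (algebraMap k F) :=
      Spec.map_injective (by rw [Spec.map_comp, ← hover, ← Category.assoc, hfac]; exact g.1.2)
    exact ⟨{ a.hom with commutes' := fun c => congr($(hcomm).hom c) }, Subtype.ext (Subtype.ext hfac)⟩

/-- Points inside a small closed subset are few. -/
theorem card_pts_closed {W : Set X} (hW : IsClosed W) (r : ℕ) (hdeg : ∀ w ∈ W, VarDim.deg f w < r) :
    ∃ c : ℕ, ∀ (F : Type u) [Field F] [Algebra k F] [Finite F],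
      (Nat.card {g : Pts f F // ptOf f g ∈ W} : ℝ) ≤ c * ((Nat.card F : ℝ) ^ r / Nat.card F) := by
  rcases r with _ | s
  · refine ⟨0, fun F _ _ _ => ?_⟩
    have : IsEmpty {g : Pts f F // ptOf f g ∈ W} := ⟨fun g => Nat.not_lt_zero _ (hdeg _ g.2)⟩
    simp
  let I := Scheme.IdealSheafData.vanishingIdeal (X := X) ⟨W, hW⟩
  let ι := I.subschemeι
  have hr : Set.range ι = W := by
    rw [Scheme.IdealSheafData.range_subschemeι, Scheme.IdealSheafData.coe_support_vanishingIdeal]
    rfl
  haveI : LocallyOfFiniteType (ι ≫ f) := inferInstance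
  haveI : CompactSpace X := QuasiCompact.compactSpace_of_compactSpace f
  haveI : QuasiCompact (ι ≫ f) := inferInstance
  have hdim : topologicalKrullDim I.subscheme ≤ (s : ℕ) := by
    have h1 : topologicalKrullDim I.subscheme ≤ topologicalKrullDim W := by
      have hι : Topology.IsInducing (Set.codRestrict ι W fun y => hr ▸ Set.mem_range_self y) :=
        ι.isEmbedding.isInducing.codRestrict _
      exact hι.topologicalKrullDim_le
    refine h1.trans ?_
    rw [VarDim.topologicalKrullDim_set_eq_iSup_deg f hW]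
    refine iSup_le fun w => ?_
    have := hdeg w.1 w.2
    exact_mod_cast (Nat.lt_succ_iff.mp this)
  obtain ⟨c, hc⟩ := S13062.result (ι ≫ f) s hdim
  refine ⟨c, fun F _ _ _ => ?_⟩
  haveI := finite_pts (ι ≫ f) F
  haveI : IsReduced (Spec (CommRingCat.of F)) := inferInstance
  have hiso : ∀ g : {g : Pts f F // ptOf f g ∈ W}, IsIso (pullback.fst g.1.1 ι) := fun g => by
    haveI : Surjective (pullback.fst g.1.1 ι) := ⟨fun y => by
      obtain ⟨w, hw⟩ : g.1.1 y ∈ Set.range ι := by
        rw [hr, Subsingleton.elim (α := PrimeSpectrum F) y (IsLocalRing.closedPoint F)]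
        exact g.2
      obtain ⟨z, hz, -⟩ := Scheme.Pullback.exists_preimage_pullback (f := g.1.1) (g := ι) y w hw.symm
      exact ⟨z, hz⟩⟩
    exact isIso_of_isClosedImmersion_of_surjective _
  let toSub : {g : Pts f F // ptOf f g ∈ W} → Pts (ι ≫ f) F := fun g =>
    haveI := hiso g
    ⟨inv (pullback.fst g.1.1 ι) ≫ pullback.snd g.1.1 ι, by
      rw [Category.assoc, ← pullback.condition_assoc, IsIso.inv_hom_id_assoc]
      exact g.1.2⟩
  have hsub : Function.Injective toSub := fun g g' h => by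
    have key : ∀ g : {g : Pts f F // ptOf f g ∈ W}, (toSub g).1 ≫ ι = g.1.1 := fun g => by
      haveI := hiso g
      show (inv (pullback.fst g.1.1 ι) ≫ pullback.snd g.1.1 ι) ≫ ι = g.1.1
      rw [Category.assoc, ← pullback.condition, IsIso.inv_hom_id_assoc]
    exact Subtype.ext (Subtype.ext (by rw [← key g, ← key g', h]))
  have h2 : Nat.card {g : Pts f F // ptOf f g ∈ W} ≤ c * Nat.card F ^ s := by
    refine (Nat.card_le_card_of_injective toSub hsub).trans ((hc F).trans (le_of_eq ?_))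
    rw [pow_mul', ← Module.natCard_eq_pow_finrank (K := k) (V := F)]
  have hQ : (Nat.card F : ℝ) ≠ 0 := Nat.cast_ne_zero.mpr Nat.card_pos.ne'
  rw [pow_succ, mul_div_assoc, div_self hQ, mul_one]
  exact_mod_cast h2

/-- The number of geometric components above `Z`. -/
abbrev numGeom (Z : Set X) : ℕ :=
  Nat.card (irreducibleComponents ((pullback.fst f (Spec.map (CommRingCat.ofHom
    (algebraMap k (AlgebraicClosure k))))).base ⁻¹' Z))

/-- An open piece of a component. -/
theorem component_card {Z : Set X} (hZ : Z ∈ irreducibleComponents (X : Type u)) {ξ : X} (hξ : IsGenericPoint ξ Z)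
    {U : X.Opens} (hU : IsAffineOpen U) (hξU : ξ ∈ U) (hsub : (U : Set X) ⊆ Z)
    (r : ℕ) (hr : VarDim.deg f ξ = r) :
    0 < numGeom f Z ∧ ∃ c : ℕ, ∀ (F : Type u) [Field F] [Algebra k F] [Finite F],
      (numGeom f Z ∣ Module.finrank k F →
        |(Nat.card {g : Pts f F // ptOf f g ∈ U} : ℝ) - numGeom f Z * (Nat.card F : ℝ) ^ r| ≤
          c * ((Nat.card F : ℝ) ^ r / Real.sqrt (Nat.card F))) ∧
      (¬ numGeom f Z ∣ Module.finrank k F →
        (Nat.card {g : Pts f F // ptOf f g ∈ U} : ℝ) ≤ c * ((Nat.card F : ℝ) ^ r / Nat.card F)) := by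
  classical
  letI : X.Over (Spec (CommRingCat.of k)) := ⟨f⟩
  letI : Algebra k Γ(X, U) := (Spec.preimage (hU.fromSpec ≫ f)).hom.toAlgebra
  have hover : hU.fromSpec ≫ f = Spec.map (CommRingCat.ofHom (algebraMap k Γ(X, U))) :=
    (Spec.map_preimage _).symm
  haveI hft : Algebra.FiniteType k Γ(X, U) := by
    have h1 : LocallyOfFiniteType (Spec.map (CommRingCat.ofHom (algebraMap k Γ(X, U)))) := by
      rw [← hover]; infer_instance
    rw [HasRingHomProperty.Spec_iff (P := @LocallyOfFiniteType)] at h1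
    exact RingHom.finiteType_algebraMap.1 h1
  obtain ⟨p, hp⟩ := VarDim.exists_fromSpec_eq hU hξU
  have hmin : ∀ q : PrimeSpectrum Γ(X, U), p ≤ q := fun q =>
    (VarDim.fromSpec_specializes_iff hU p q).1 (hp ▸ hξ.specializes (hsub (VarDim.fromSpec_mem hU q)))
  let A := Γ(X, U) ⧸ p.asIdeal
  haveI : IsDomain A := Ideal.Quotient.isDomain _
  haveI : Algebra.FiniteType k A :=
    Algebra.FiniteType.of_surjective (Ideal.Quotient.mkₐ k p.asIdeal) Ideal.Quotient.mk_surjective
  have hdimA : ringKrullDim A = r := by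
    rw [← VarDim.coheight_eq_ringKrullDim_quotient, VarDim.deg_eq_coheight f hU p, hp, hr]
    rfl
  -- the residue field at the generic point
  let c : GeomField.Chart k X := { R := Γ(X, U), emb := hU.fromSpec, over_eq := hover }
  let P : Spec (CommRingCat.of c.R) := p
  letI := Curv2.stalkAlgebra (k := k) (X := X)
  letI := Curv2.resAlgebra (k := k) (X := X)
  let κ := X.residueField (c.emb P)
  letI := c.stalkAlg P
  have htow := c.isScalarTower_stalk P
  have hloc := c.isLocalization_stalk P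
  let ψ : Γ(X, U) →ₐ[k] κ :=
    { toRingHom := (X.residue (c.emb P)).hom.comp (c.toStalk P)
      commutes' := fun a => by
        show X.residue (c.emb P) (c.toStalk P (algebraMap k c.R a)) = _
        rw [c.toStalk_algebraMap P a]
        rfl }
  have hker : ∀ a, ψ a = 0 ↔ a ∈ p.asIdeal := fun a => by
    show IsLocalRing.residue _ (algebraMap c.R (X.presheaf.stalk (c.emb P)) a) = 0 ↔ _
    rw [IsLocalRing.residue_eq_zero_iff, ← Ideal.mem_comap, ← Ideal.under_def,
      IsLocalization.AtPrime.comap_maximalIdeal (X.presheaf.stalk (c.emb P)) (PrimeSpectrum.asIdeal (R := c.R) P)]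
  let ψA : A →ₐ[k] κ := Ideal.Quotient.liftₐ p.asIdeal ψ fun a ha => (hker a).2 ha
  letI : Algebra A κ := ψA.toRingHom.toAlgebra
  haveI : IsScalarTower k A κ := IsScalarTower.of_algebraMap_eq fun a => (ψA.commutes a).symm
  have hψA : Function.Injective ψA := (injective_iff_map_eq_zero _).2 fun a ha => by
    obtain ⟨a, rfl⟩ := Ideal.Quotient.mk_surjective a
    exact Ideal.Quotient.eq_zero_iff_mem.2 ((hker a).1 ha)
  haveI : FaithfulSMul A κ := (faithfulSMul_iff_algebraMap_injective _ _).2 hψA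
  haveI : IsFractionRing A κ := by
    refine IsFractionRing.of_field A κ fun z => ?_
    obtain ⟨z, rfl⟩ := X.residue_surjective (c.emb P) z
    obtain ⟨a, b, hab⟩ := IsLocalization.exists_mk'_eq (PrimeSpectrum.asIdeal (R := c.R) P).primeCompl z
    refine ⟨Ideal.Quotient.mk _ a, Ideal.Quotient.mk _ b.1, ?_⟩
    have hb : ψ b.1 ≠ 0 := fun h => b.2 ((hker b.1).1 h)
    refine Eq.symm ((div_eq_iff hb).2 ?_)
    show (X.residue (c.emb P)).hom (algebraMap c.R _ a) =
      (X.residue (c.emb P)).hom _ * (X.residue (c.emb P)).hom (algebraMap c.R _ b.1)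
    rw [← hab, ← map_mul, IsLocalization.mk'_spec]
  let e : FractionRing A ≃ₐ[k] κ := (FractionRing.algEquiv A κ).restrictScalars k
  have heq : Module.finrank k (algebraicClosure k (FractionRing A)) = Module.finrank k (algebraicClosure k κ) :=
    (algebraicClosure.algEquivOfAlgEquiv e).toLinearEquiv.finrank_eq
  haveI : Finite (algebraicClosure k (FractionRing A)) := finite_constants k A
  haveI : Finite (algebraicClosure k κ) :=
    Finite.of_equiv _ (algebraicClosure.algEquivOfAlgEquiv e).toEquiv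
  haveI : FiniteDimensional k (algebraicClosure k κ) := Module.Finite.of_finite
  have hm : numGeom f Z = Module.finrank k (algebraicClosure k (FractionRing A)) := by
    rw [heq, ← card_primeSpectrum_tensor k κ (AlgebraicClosure k)]
    exact card_components_preimage (k := k) (AlgebraicClosure k) hZ (hp.symm ▸ hξ)
  refine ⟨by rw [hm, heq]; exact Module.finrank_pos, ?_⟩
  obtain ⟨c', hc'⟩ := domain_card_constants k A r hdimA
  refine ⟨c', fun F _ _ _ => ?_⟩
  rw [card_pts_affine f hU hover F, hm]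
  let E : (A →ₐ[k] F) ≃ (Γ(X, U) →ₐ[k] F) :=
    { toFun := fun φ => φ.comp (Ideal.Quotient.mkₐ k p.asIdeal)
      invFun := fun φ => Ideal.Quotient.liftₐ p.asIdeal φ fun a ha =>
        hmin ⟨RingHom.ker φ.toRingHom, RingHom.ker_isPrime _⟩ ha
      left_inv := fun φ => AlgHom.ext fun a => by
        obtain ⟨a, rfl⟩ := Ideal.Quotient.mk_surjective a
        rfl
      right_inv := fun φ => rfl }
  rw [← Nat.card_congr E]
  exact hc' F

/-- **Lang–Weil with components.** -/
theorem scheme_card (r : ℕ) (hr : topologicalKrullDim X = r) :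
    ∃ T : Finset (Set X), (∀ Z : Set X, Z ∈ T ↔ Z ∈ irreducibleComponents (X : Type u) ∧ topologicalKrullDim Z = r) ∧
      (∀ Z ∈ T, 0 < numGeom f Z) ∧
      ∃ c : ℕ, ∀ (F : Type u) [Field F] [Algebra k F] [Finite F],
        |(Nat.card (Pts f F) : ℝ) - (∑ Z ∈ T with numGeom f Z ∣ Module.finrank k F, numGeom f Z : ℕ) *
            (Nat.card F : ℝ) ^ r| ≤ c * ((Nat.card F : ℝ) ^ r / Real.sqrt (Nat.card F)) ∧
        ((∀ Z ∈ T, ¬ numGeom f Z ∣ Module.finrank k F) →
          (Nat.card (Pts f F) : ℝ) ≤ c * ((Nat.card F : ℝ) ^ r / Nat.card F)) := by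
  classical
  haveI : CompactSpace X := QuasiCompact.compactSpace_of_compactSpace f
  haveI : IsLocallyNoetherian X := LocallyOfFiniteType.isLocallyNoetherian f
  haveI : IsNoetherian X := { }
  have hfin : (irreducibleComponents (X : Type u)).Finite :=
    TopologicalSpace.NoetherianSpace.finite_irreducibleComponents
  let T := hfin.toFinset.filter fun Z : Set X => topologicalKrullDim Z = r
  have hT : ∀ Z : Set X, Z ∈ T ↔ Z ∈ irreducibleComponents (X : Type u) ∧ topologicalKrullDim Z = r := fun Z => by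
    simp [T, Set.Finite.mem_toFinset]
  -- affine opens inside single components
  have hO : ∀ Z : T, ∃ (ξ : X) (U : X.Opens), IsGenericPoint ξ Z.1 ∧ IsAffineOpen U ∧ ξ ∈ U ∧
      (U : Set X) ⊆ Z.1 ∧ (∀ C ∈ irreducibleComponents (X : Type u), C ≠ Z.1 → ∀ x ∈ U, x ∉ C) ∧
      VarDim.deg f ξ = r := fun Z => by
    obtain ⟨hZ, hZd⟩ := (hT Z.1).1 Z.2
    obtain ⟨ξ, hξ, hmax⟩ := VarDim.exists_generic_of_component hZ
    let C' : Set X := ⋃ C ∈ hfin.toFinset.erase Z.1, C
    have hC' : IsClosed C' := (Finset.finite_toSet _).isClosed_biUnion fun C hC =>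
      isClosed_of_mem_irreducibleComponents C (hfin.mem_toFinset.1 (Finset.mem_erase.1 hC).2)
    have hξC : ξ ∉ C' := fun h => by
      obtain ⟨C, hC, hx⟩ := Set.mem_iUnion₂.1 h
      obtain ⟨hne, hCm⟩ := Finset.mem_erase.1 hC
      have hle : Z.1 ⊆ C := hξ ▸ closure_minimal (Set.singleton_subset_iff.2 hx)
        (isClosed_of_mem_irreducibleComponents C (hfin.mem_toFinset.1 hCm))
      exact hne (Set.Subset.antisymm (hZ.2 (hfin.mem_toFinset.1 hCm).1 hle) hle)
    obtain ⟨U, hU, hξU, hUO⟩ := exists_isAffineOpen_mem_and_subset (x := ξ) (U := ⟨C'ᶜ, hC'.isOpen_compl⟩) hξC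
    have hother : ∀ C ∈ irreducibleComponents (X : Type u), C ≠ Z.1 → ∀ x ∈ U, x ∉ C := fun C hC hne x hx hxC =>
      hUO hx (Set.mem_iUnion₂.2 ⟨C, Finset.mem_erase.2 ⟨hne, hfin.mem_toFinset.2 hC⟩, hxC⟩)
    refine ⟨ξ, U, hξ.symm, hU, hξU, fun x hx => ?_, hother, ?_⟩
    · by_contra hxZ
      exact hother _ (irreducibleComponent_mem_irreducibleComponents x)
        (fun h => hxZ (h ▸ mem_irreducibleComponent)) x hx mem_irreducibleComponent
    · rw [hξ, VarDim.topologicalKrullDim_closure_singleton f ξ] at hZd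
      exact_mod_cast hZd
  choose ξ U hξ hU hξU hsub hother hdeg using hO
  have hcard : ∀ Z : T, _ := fun Z => component_card f ((hT Z.1).1 Z.2).1 (hξ Z) (hU Z) (hξU Z) (hsub Z) r (hdeg Z)
  refine ⟨T, hT, fun Z hZ => (hcard ⟨Z, hZ⟩).1, ?_⟩
  choose cZ hcZ using fun Z => (hcard Z).2
  have hdisj : ∀ Z Z' : T, ∀ x, x ∈ U Z → x ∈ U Z' → Z = Z' := fun Z Z' x hx hx' => by
    by_contra hne
    exact hother Z Z'.1 ((hT _).1 Z'.2).1 (fun h => hne (Subtype.ext h.symm)) x hx (hsub Z' hx')
  -- the rest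
  let W : Set X := (⋃ Z : T, (U Z : Set X))ᶜ
  have hW : IsClosed W := (isOpen_iUnion fun Z => (U Z).2).isClosed_compl
  have hWdeg : ∀ w ∈ W, VarDim.deg f w < r := fun w hw => by
    obtain ⟨η, hηw, hmax⟩ := VarDim.exists_maximal_generalization f w
    have hηr : VarDim.deg f η ≤ r := by
      have h1 : ((VarDim.deg f η : ℕ∞) : WithBot ℕ∞) ≤ r := by
        rw [← hr, VarDim.topologicalKrullDim_eq_iSup_deg f]
        exact le_iSup (fun x : X => ((VarDim.deg f x : ℕ∞) : WithBot ℕ∞)) η
      exact_mod_cast h1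
    refine lt_of_le_of_ne ((VarDim.deg_le_of_specializes f hηw).trans hηr) fun heq => ?_
    have hηw' : η = w := VarDim.eq_of_specializes_of_deg_le f hηw (heq ▸ hηr)
    have hZT : closure {η} ∈ T := (hT _).2 ⟨VarDim.closure_mem_irreducibleComponents hmax, by
      rw [VarDim.topologicalKrullDim_closure_singleton f η, hηw', heq]
      rfl⟩
    have hgen : ξ ⟨_, hZT⟩ = η := (hξ ⟨_, hZT⟩).eq rfl
    have hηU := hξU ⟨_, hZT⟩
    rw [hgen] at hηU
    exact hw (Set.mem_iUnion.2 ⟨⟨_, hZT⟩, Eq.subst (motive := fun x => x ∈ U ⟨_, hZT⟩) hηw' hηU⟩)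
  obtain ⟨cW, hcW⟩ := card_pts_closed f hW r hWdeg
  refine ⟨(∑ Z, cZ Z) + cW, fun F _ _ _ => ?_⟩
  haveI := finite_pts f F
  let N : T → ℝ := fun Z => (Nat.card {g : Pts f F // ptOf f g ∈ U Z} : ℝ)
  have hsplit : (Nat.card (Pts f F) : ℝ) = (∑ Z, N Z) + Nat.card {g : Pts f F // ptOf f g ∈ W} := by
    have h1 : Nat.card (Pts f F) =
        Nat.card {g : Pts f F // ptOf f g ∉ W} + Nat.card {g : Pts f F // ptOf f g ∈ W} := by
      rw [add_comm, ← Nat.card_sum]
      exact Nat.card_congr (Equiv.sumCompl _).symm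
    have h2 : Nat.card (Σ Z : T, {g : Pts f F // ptOf f g ∈ U Z}) = Nat.card {g : Pts f F // ptOf f g ∉ W} :=
      Nat.card_eq_of_bijective (fun q => ⟨q.2.1, fun h => h (Set.mem_iUnion.2 ⟨q.1, q.2.2⟩)⟩)
        ⟨fun q q' h => by
          obtain ⟨Z, g, hg⟩ := q
          obtain ⟨Z', g', hg'⟩ := q'
          obtain rfl : g = g' := congrArg Subtype.val h
          obtain rfl := hdisj Z Z' _ hg hg'
          rfl,
        fun g => by
          obtain ⟨Z, hZ⟩ := Set.mem_iUnion.1 (not_not.1 g.2)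
          exact ⟨⟨Z, g.1, hZ⟩, rfl⟩⟩
    rw [h1, ← h2, Nat.card_sigma, Nat.cast_add, Nat.cast_sum]
  set Q : ℝ := (Nat.card F : ℝ) with hQ
  have hQ1 : 1 ≤ Q := by rw [hQ]; exact_mod_cast (Nat.card_pos : 0 < Nat.card F)
  have hQS : Q ^ r / Q ≤ Q ^ r / Real.sqrt Q := by
    gcongr
    exact Real.sqrt_le_left (by linarith) |>.mpr (by nlinarith)
  have hW1 : (Nat.card {g : Pts f F // ptOf f g ∈ W} : ℝ) ≤ cW * (Q ^ r / Q) := hcW F
  have h0 : (0 : ℝ) ≤ Nat.card {g : Pts f F // ptOf f g ∈ W} := Nat.cast_nonneg _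
  refine ⟨?_, fun hnone => ?_⟩
  · have key : ∀ Z : T, |N Z - (if numGeom f Z.1 ∣ Module.finrank k F then (numGeom f Z.1 : ℝ) else 0) * Q ^ r| ≤
        cZ Z * (Q ^ r / Real.sqrt Q) := fun Z => by
      split_ifs with h
      · exact (hcZ Z F).1 h
      · rw [zero_mul, sub_zero, abs_of_nonneg (Nat.cast_nonneg _)]
        exact ((hcZ Z F).2 h).trans (mul_le_mul_of_nonneg_left hQS (Nat.cast_nonneg _))
    have hsum : ((∑ Z ∈ T with numGeom f Z ∣ Module.finrank k F, numGeom f Z : ℕ) : ℝ) * Q ^ r =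
        ∑ Z : T, (if numGeom f Z.1 ∣ Module.finrank k F then (numGeom f Z.1 : ℝ) else 0) * Q ^ r := by
      rw [Finset.sum_coe_sort T fun Z => (if numGeom f Z ∣ Module.finrank k F then (numGeom f Z : ℝ) else 0) * Q ^ r,
        ← Finset.sum_mul, ← Finset.sum_filter, Nat.cast_sum]
    have hrest : (Nat.card {g : Pts f F // ptOf f g ∈ W} : ℝ) ≤ cW * (Q ^ r / Real.sqrt Q) :=
      hW1.trans (mul_le_mul_of_nonneg_left hQS (Nat.cast_nonneg _))
    rw [hsplit, hsum, add_sub_right_comm, ← Finset.sum_sub_distrib, Nat.cast_add, Nat.cast_sum, add_mul,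
      Finset.sum_mul]
    refine (abs_add_le _ _).trans (add_le_add ((Finset.abs_sum_le_sum_abs _ _).trans
      (Finset.sum_le_sum fun Z _ => key Z)) ?_)
    rwa [abs_of_nonneg h0]
  · rw [hsplit, Nat.cast_add, Nat.cast_sum, add_mul, Finset.sum_mul]
    exact add_le_add (Finset.sum_le_sum fun Z _ => (hcZ Z F).2 (hnone Z.1 Z.2)) hW1

end Groth.Agent.ZH85.LangWeil
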