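import Groth.Agent.ZH85.LangWeil.Factor
import Groth.Agent.ZH85.PtLow.PlaneCount
import Mathlib.FieldTheory.PurelyInseparable.Basic
import Mathlib.FieldTheory.IsAlgClosed.AlgebraicClosure
import Mathlib.RingTheory.MvPolynomial.Basic
import Mathlib.Algebra.MvPolynomial.Funext
import Mathlib.RingTheory.Polynomial.UniqueFactorization
import Mathlib.Algebra.Polynomial.Derivation

/-! Absolute irreducibility, and restriction to generic lines. -/

noncomputable section

set_option linter.unusedSectionVars false
set_option linter.style.haveILetI false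
set_option maxHeartbeats 400000

universe u v w

open Polynomial

namespace Groth.Agent.ZH85.LangWeil

/-- A monic irreducible polynomial divides a given one or is comaximal with it up to a constant. -/
theorem exists_bezout {R : Type u} [CommRing R] [IsDomain R] [IsIntegrallyClosed R] {h : R[X]} (hm : h.Monic)
    (hirr : Irreducible h) (w : R[X]) :
    h ∣ w ∨ ∃ (c : R) (r s : R[X]), c ≠ 0 ∧ r * h + s * w = C c := by
  let φ : R →+* FractionRing R := algebraMap _ _
  have hirrK : Irreducible (h.map φ) := hm.irreducible_iff_irreducible_map_fraction_map.mp hirr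
  by_cases hdvd : h.map φ ∣ w.map φ
  · exact Or.inl ((Polynomial.map_dvd_map _ (IsFractionRing.injective R (FractionRing R)) hm).mp hdvd)
  right
  obtain ⟨a, b, hab⟩ := (hirrK.coprime_iff_not_dvd (n := w.map φ)).mpr hdvd
  obtain ⟨c₁, hc₁, ha⟩ := IsLocalization.integerNormalization_spec (nonZeroDivisors R) a
  obtain ⟨c₂, hc₂, hb⟩ := IsLocalization.integerNormalization_spec (nonZeroDivisors R) b
  refine ⟨c₁ * c₂, C c₂ * IsLocalization.integerNormalization (nonZeroDivisors R) a,
    C c₁ * IsLocalization.integerNormalization (nonZeroDivisors R) b,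
    mul_ne_zero (nonZeroDivisors.ne_zero hc₁) (nonZeroDivisors.ne_zero hc₂), ?_⟩
  apply Polynomial.map_injective φ (IsFractionRing.injective R (FractionRing R))
  simp only [Polynomial.map_add, Polynomial.map_mul, Polynomial.map_C, φ, ha, hb]
  rw [← IsScalarTower.algebraMap_smul (FractionRing R) c₁ a, ← IsScalarTower.algebraMap_smul (FractionRing R) c₂ b,
    ← C_mul', ← C_mul', map_mul, map_mul]
  linear_combination (C ((algebraMap R (FractionRing R)) c₁) * C ((algebraMap R (FractionRing R)) c₂)) * hab

theorem evalEval_bmap {R S : Type*} [CommRing R] [CommRing S] (φ : R →+* S) (h : (R[X])[X]) (a b : R) :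
    (bmap φ h).evalEval (φ a) (φ b) = φ (h.evalEval a b) :=
  Polynomial.map_mapRingHom_evalEval φ h a b

/-- A conjugation-invariant element is purely inseparable. -/
theorem exists_pow_mem {E L : Type u} [Field E] [Field L] [Algebra E L] [IsAlgClosed L] [Normal E L]
    (q : ℕ) [ExpChar E q] {c : L} (hc : ∀ σ : L ≃ₐ[E] L, σ c = c) :
    ∃ n : ℕ, c ^ q ^ n ∈ (algebraMap E L).range := by
  classical
  refine (minpoly.natSepDegree_eq_one_iff_pow_mem q).mp ?_
  have hint : IsIntegral E c := Normal.isIntegral inferInstance c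
  rw [Polynomial.natSepDegree_eq_of_isAlgClosed L]
  have : ((minpoly E c).aroots L).toFinset = {c} := by
    ext z
    rw [Multiset.mem_toFinset, mem_aroots, Finset.mem_singleton]
    refine ⟨fun ⟨_, hz⟩ => ?_, fun hz => by subst hz; exact ⟨minpoly.ne_zero hint, minpoly.aeval E z⟩⟩
    obtain ⟨σ, hσ⟩ := minpoly.exists_algEquiv_of_root' hint.isAlgebraic hz
    subst hσ
    exact hc σ
  rw [this, Finset.card_singleton]

/-- **A monic irreducible polynomial with a simple rational point is absolutely irreducible.** -/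
theorem irreducible_closure_of_simple_point {E : Type u} [Field E] (L : Type u) [Field L] [Algebra E L]
    [IsAlgClosed L] [Normal E L] {h : (E[X])[X]} (hm : h.Monic)
    (hirr : Irreducible h) {a b : E} (hab : h.evalEval a b = 0) (hs : h.derivative.evalEval a b ≠ 0) :
    Irreducible (bmap (algebraMap E L) h) := by
  classical
  set ι := algebraMap E L
  set H := bmap ι h with hHdef
  have hHm : H.Monic := bmap_monic ι hm
  have hH0 : H.evalEval (ι a) (ι b) = 0 := by rw [evalEval_bmap, hab, map_zero]
  have hHs : H.derivative.evalEval (ι a) (ι b) ≠ 0 := by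
    rw [show H.derivative = bmap ι h.derivative from derivative_map _ _, evalEval_bmap, _root_.map_ne_zero]
    exact hs
  obtain ⟨h₁, h1m, h1i, h1d, h10⟩ := PtLow.exists_monic_factor hHm hH0
  have hsq : ∀ f : (L[X])[X], f.evalEval (ι a) (ι b) = 0 → ¬ h₁ * f ∣ H := by
    rintro f hf ⟨r, hr⟩
    refine hHs ?_
    rw [hr]
    simp [derivative_mul, evalEval_mul, evalEval_add, h10, hf]
  have hfix : ∀ σ : L ≃ₐ[E] L, bmap (σ : L →+* L) h₁ = h₁ := by
    intro σ
    let T : (L[X])[X] := bmap (σ : L →+* L) h₁
    have hi : Irreducible T := by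
      let e : L[X] ≃+* L[X] := Polynomial.mapEquiv σ.toRingEquiv
      exact (MulEquiv.irreducible_iff (Polynomial.mapEquiv e).toMulEquiv).mpr h1i
    have hd : T ∣ H := by
      have h2 := map_dvd (bmap (σ : L →+* L)) h1d
      rw [hHdef, bmap_bmap] at h2
      rw [hHdef]
      exact (show (σ : L →+* L).comp ι = ι from σ.toAlgHom.comp_algebraMap) ▸ h2
    have h0 : T.evalEval (ι a) (ι b) = 0 := by
      rw [show ι a = (σ : L →+* L) (ι a) from (σ.commutes a).symm,
        show ι b = (σ : L →+* L) (ι b) from (σ.commutes b).symm, evalEval_bmap, h10, map_zero]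
    by_contra hne
    have hco : IsRelPrime h₁ T := (h1i.isRelPrime_iff_not_dvd).mpr fun hdvd => hne
      (eq_of_monic_of_associated h1m (bmap_monic _ h1m) (h1i.associated_of_dvd hi hdvd)).symm
    exact hsq _ h0 (hco.mul_dvd h1d hd)
  let q := ringExpChar E
  haveI : ExpChar L q := expChar_of_injective_algebraMap (algebraMap E L).injective q
  have hcoef : ∀ i j, ∃ n : ℕ, ((h₁.coeff i).coeff j) ^ q ^ n ∈ ι.range := fun i j => exists_pow_mem q fun σ => by
    conv_rhs => rw [← hfix σ]
    simp [coeff_map]
  choose n hn using hcoef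
  let N : ℕ := (Finset.range (h₁.natDegree + 1)).sup fun i => (Finset.range ((h₁.coeff i).natDegree + 1)).sup (n i)
  have hN : ∀ i j, ((h₁.coeff i).coeff j) ^ q ^ N ∈ ι.range := by
    intro i j
    by_cases hc : (h₁.coeff i).coeff j = 0
    · rw [hc, zero_pow (pow_ne_zero _ (expChar_ne_zero L q))]; exact zero_mem _
    have hj : j ≤ (h₁.coeff i).natDegree := le_natDegree_of_ne_zero hc
    have hi : i ≤ h₁.natDegree := le_natDegree_of_ne_zero fun h => hc (by rw [h, coeff_zero])
    have hle : n i j ≤ N := le_trans (Finset.le_sup (f := n i) (Finset.mem_range_succ_iff.mpr hj))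
      (Finset.le_sup (f := fun i => (Finset.range ((h₁.coeff i).natDegree + 1)).sup (n i)) (Finset.mem_range_succ_iff.mpr hi))
    obtain ⟨l, hl⟩ := Nat.exists_eq_add_of_le hle
    rw [hl, pow_add, pow_mul]
    exact pow_mem (hn i j) _
  obtain ⟨G, hG⟩ : h₁ ^ q ^ N ∈ (bmap ι).range := by
    haveI : ExpChar (L[X])[X] q := expChar_of_injective_ringHom
      (f := (C : L[X] →+* (L[X])[X]).comp C) (fun a b hab => C_injective (C_injective hab)) q
    rw [← iterateFrobenius_def (R := (L[X])[X]) q N, h₁.as_sum_support_C_mul_X_pow, map_sum]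
    refine Subring.sum_mem _ fun i _ => ?_
    rw [map_mul, map_pow, (h₁.coeff i).as_sum_support_C_mul_X_pow, map_sum, map_sum]
    refine Subring.mul_mem _ (Subring.sum_mem _ fun j _ => ?_) (Subring.pow_mem _ ?_ _)
    · rw [map_mul, map_mul, map_pow, map_pow]
      refine Subring.mul_mem _ ?_ (Subring.pow_mem _ ?_ _)
      · obtain ⟨e, he⟩ := hN i j
        exact ⟨C (C e), by simp [iterateFrobenius_def, ← map_pow, he]⟩
      · exact ⟨(C (X : E[X]) : (E[X])[X]) ^ q ^ N, by simp [iterateFrobenius_def]⟩
    · exact ⟨(X : (E[X])[X]) ^ q ^ N, by simp [iterateFrobenius_def]⟩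
  rcases exists_bezout hm hirr G with hdvd | ⟨c, r, s, hc, hrs⟩
  · have hHdvd : H ∣ h₁ ^ q ^ N := hG ▸ map_dvd (bmap ι) hdvd
    obtain ⟨j, -, hj⟩ := (dvd_prime_pow (UniqueFactorizationMonoid.irreducible_iff_prime.mp h1i) _).mp hHdvd
    have hHj : H = h₁ ^ j := eq_of_monic_of_associated hHm (h1m.pow j) hj
    match j, hHj with
    | 0, hHj => exact absurd hH0 (by rw [hHj]; simp)
    | 1, hHj => rw [hHj, pow_one]; exact h1i
    | j + 2, hHj => exact absurd (hHj ▸ Dvd.intro (h₁ ^ j) (by ring) : h₁ * h₁ ∣ H) (hsq h₁ h10)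
  · exfalso
    have h1 : h₁ ∣ bmap ι (C c) := by
      rw [← hrs, map_add, map_mul, map_mul]
      exact dvd_add (h1d.mul_left _) (Dvd.dvd.mul_left (hG ▸ dvd_pow_self h₁ (pow_ne_zero _ (expChar_ne_zero L q))) _)
    rw [coe_mapRingHom, Polynomial.map_C] at h1
    have hne : C (Polynomial.mapRingHom ι c) ≠ 0 := by simpa [Polynomial.map_eq_zero] using hc
    have h2 := natDegree_le_of_dvd h1 hne
    rw [natDegree_C] at h2
    exact h1i.not_isUnit (by rw [eq_one_of_monic_natDegree_zero h1m (by omega)]; exact isUnit_one)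

theorem line_param {K : Type u} [Field K] (a c b p : K) (h : b - p ≠ 0) :
    c - (a - c) / (b - p) * p + (a - c) / (b - p) * b = a := by
  field_simp
  ring

section Line

variable {k : Type u} [Field k] {s : ℕ}

/-- The substitution `x₀ ↦ t, xᵢ ↦ aᵢ + vᵢ t`. -/
def lineHom {R : Type v} [CommRing R] (φ : k →+* R) (a w : Fin s → R) : MvPolynomial (Fin (s + 1)) k →+* R[X] :=
  MvPolynomial.eval₂Hom ((C : R →+* R[X]).comp φ) (Fin.cons X fun i => C (a i) + C (w i) * X)

theorem lineHom_comp {R : Type v} {S : Type w} [CommRing R] [CommRing S] (φ : k →+* R) (ψ : R →+* S)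
    (a w : Fin s → R) : (mapRingHom ψ).comp (lineHom φ a w) = lineHom (ψ.comp φ) (ψ ∘ a) (ψ ∘ w) := by
  refine MvPolynomial.ringHom_ext (fun c => ?_) fun i => ?_
  · simp [lineHom]
  · induction i using Fin.cases <;> simp [lineHom]

theorem eval_lineHom {R : Type v} [CommRing R] (φ : k →+* R) (a w : Fin s → R) (t : R)
    (p : MvPolynomial (Fin (s + 1)) k) :
    (lineHom φ a w p).eval t = MvPolynomial.eval₂ φ (Fin.cons t fun i => a i + w i * t) p := by
  suffices h : (evalRingHom t).comp (lineHom φ a w) = MvPolynomial.eval₂Hom φ (Fin.cons t fun i => a i + w i * t) from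
    RingHom.congr_fun h p
  refine MvPolynomial.ringHom_ext (fun c => ?_) fun i => ?_
  · simp [lineHom]
  · induction i using Fin.cases <;> simp [lineHom]

/-- Restricted to the generic line through a point, an irreducible hypersurface stays irreducible. -/
theorem irreducible_generic_line (P : Fin (s + 1) → k) {g : (MvPolynomial (Fin (s + 1)) k)[X]}
    (hm : g.Monic) (hirr : Irreducible g) :
    Irreducible (g.map (lineHom (algebraMap k (FractionRing (MvPolynomial (Fin s) k)))
      (fun i => algebraMap k _ (P i.succ) - algebraMap (MvPolynomial (Fin s) k) _ (MvPolynomial.X i) * algebraMap k _ (P 0))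
      (fun i => algebraMap (MvPolynomial (Fin s) k) _ (MvPolynomial.X i)))) := by
  classical
  let V := MvPolynomial (Fin s) k
  let K := FractionRing V
  let Fx := FractionRing (MvPolynomial (Fin (s + 1)) k)
  let a₀ : Fin s → V := fun i => MvPolynomial.C (P i.succ) - MvPolynomial.X i * MvPolynomial.C (P 0)
  let Ψ₀ : MvPolynomial (Fin (s + 1)) k →+* V[X] := lineHom MvPolynomial.C a₀ MvPolynomial.X
  let Ψ : MvPolynomial (Fin (s + 1)) k →+* K[X] := lineHom (algebraMap k K)
      (fun i => algebraMap k K (P i.succ) - algebraMap V K (MvPolynomial.X i) * algebraMap k K (P 0))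
      (fun i => algebraMap V K (MvPolynomial.X i))
  have hck : ∀ c, algebraMap V K (MvPolynomial.C c) = algebraMap k K c := fun c =>
    (IsScalarTower.algebraMap_apply k V K c).symm
  have hΨ : Ψ = (mapRingHom (algebraMap V K)).comp Ψ₀ := by
    rw [lineHom_comp]
    simp only [Ψ, a₀, Function.comp_def, map_sub, map_mul, hck]
    congr 1
  let x : Fin (s + 1) → Fx := fun i => algebraMap (MvPolynomial (Fin (s + 1)) k) Fx (MvPolynomial.X i)
  let cst : k →+* Fx := (algebraMap (MvPolynomial (Fin (s + 1)) k) Fx).comp MvPolynomial.C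
  let β : V[X] →+* Fx := eval₂RingHom
    (MvPolynomial.eval₂Hom cst fun i => (x i.succ - cst (P i.succ)) / (x 0 - cst (P 0))) (x 0)
  have hx0 : x 0 - cst (P 0) ≠ 0 := by
    rw [show x 0 - cst (P 0) = algebraMap (MvPolynomial (Fin (s + 1)) k) Fx (MvPolynomial.X 0 - MvPolynomial.C (P 0)) from (map_sub _ _ _).symm]
    refine (map_ne_zero_iff _ (IsFractionRing.injective _ Fx)).mpr fun h => ?_
    have := congrArg (MvPolynomial.eval (Function.update (0 : Fin (s + 1) → k) 0 (P 0 + 1))) h
    simp at this
  have hβ : β.comp Ψ₀ = algebraMap _ Fx := by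
    refine MvPolynomial.ringHom_ext (fun c => ?_) fun i => ?_
    · simp [β, Ψ₀, lineHom, cst]
      exact MvPolynomial.eval₂Hom_C _ _ _
    · induction i using Fin.cases with
      | zero => simp [β, Ψ₀, lineHom, x]
      | succ i =>
        simp only [β, Ψ₀, a₀, lineHom, RingHom.comp_apply, MvPolynomial.eval₂Hom_X', Fin.cons_succ, map_add, map_mul,
          map_sub, coe_eval₂RingHom, eval₂_C, eval₂_X, MvPolynomial.eval₂Hom_C, MvPolynomial.eval₂_X,
          MvPolynomial.coe_eval₂Hom, MvPolynomial.eval₂_C]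
        show _ = x i.succ
        have e1 : ∀ (f : Fin s → Fx) (c : k), MvPolynomial.eval₂Hom cst f (MvPolynomial.C c) = cst c :=
          fun f c => MvPolynomial.eval₂Hom_C _ _ _
        have e2 : ∀ (f : Fin s → Fx) (j : Fin s), MvPolynomial.eval₂Hom cst f (MvPolynomial.X j) = f j :=
          fun f j => MvPolynomial.eval₂Hom_X' _ _ _
        rw [show ∀ (c : k), MvPolynomial.eval₂Hom cst _ (MvPolynomial.C c : V) = cst c from e1 _,
          show ∀ (c : k), MvPolynomial.eval₂Hom cst _ (MvPolynomial.C c : V) = cst c from e1 _,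
          show ∀ (j : Fin s), MvPolynomial.eval₂Hom cst _ (MvPolynomial.X j : V) = _ from e2 _]
        exact line_param (x i.succ) (cst (P i.succ)) (x 0) (cst (P 0)) hx0
  have hΨinj : Function.Injective Ψ := by
    rw [hΨ]
    refine (Polynomial.map_injective _ (IsFractionRing.injective V K)).comp fun p q hpq => ?_
    apply IsFractionRing.injective (MvPolynomial (Fin (s + 1)) k) Fx
    rw [← hβ, RingHom.comp_apply, RingHom.comp_apply, hpq]
  let θ : Fx →+* RatFunc K :=
    IsFractionRing.lift (g := (algebraMap K[X] (RatFunc K)).comp Ψ) ((RatFunc.algebraMap_injective K).comp hΨinj)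
  have hθ : ∀ p, θ (algebraMap _ Fx p) = algebraMap K[X] (RatFunc K) (Ψ p) :=
    IsFractionRing.lift_algebraMap _
  have hθs : Function.Surjective θ := by
    have hC : ∀ c, algebraMap K[X] (RatFunc K) (C (algebraMap k K c)) ∈ θ.fieldRange := fun c =>
      ⟨cst c, by simp [cst, hθ, Ψ, lineHom]⟩
    have hX : algebraMap K[X] (RatFunc K) X ∈ θ.fieldRange := ⟨x 0, by simp [x, hθ, Ψ, lineHom]⟩
    have hv : ∀ i, algebraMap K[X] (RatFunc K) (C (algebraMap V K (MvPolynomial.X i))) ∈ θ.fieldRange := fun i => by
      refine ⟨(x i.succ - cst (P i.succ)) / (x 0 - cst (P 0)), ?_⟩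
      rw [map_div₀, div_eq_iff (by rw [← map_zero θ]; exact θ.injective.ne hx0)]
      simp only [x, cst, RingHom.comp_apply, map_sub, hθ, Ψ, lineHom, MvPolynomial.eval₂Hom_X', MvPolynomial.eval₂Hom_C,
        Fin.cons_succ, Fin.cons_zero, map_add, map_mul]
      ring
    have hV : ∀ p : V, algebraMap K[X] (RatFunc K) (C (algebraMap V K p)) ∈ θ.fieldRange := fun p => by
      induction p using MvPolynomial.induction_on with
      | C c => rw [hck]; exact hC c
      | add p q hp hq => rw [map_add, map_add, map_add]; exact add_mem hp hq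
      | mul_X p i hp => rw [map_mul, map_mul, map_mul]; exact mul_mem hp (hv i)
    have hK : ∀ z : K, algebraMap K[X] (RatFunc K) (C z) ∈ θ.fieldRange := fun z => by
      obtain ⟨p, q, -, rfl⟩ := IsFractionRing.div_surjective (A := V) z
      rw [← RingHom.comp_apply, map_div₀]
      exact div_mem (hV p) (hV q)
    have hP : ∀ p : K[X], algebraMap K[X] (RatFunc K) p ∈ θ.fieldRange := fun p => by
      induction p using Polynomial.induction_on' with
      | add p q hp hq => rw [map_add]; exact add_mem hp hq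
      | monomial n z => rw [← C_mul_X_pow_eq_monomial, map_mul, map_pow]; exact mul_mem (hK z) (pow_mem hX n)
    intro z
    obtain ⟨p, q, -, rfl⟩ := IsFractionRing.div_surjective (A := K[X]) z
    exact RingHom.mem_fieldRange.mp (div_mem (hP p) (hP q))
  let e : Fx ≃+* RatFunc K := RingEquiv.ofBijective θ ⟨θ.injective, hθs⟩
  have h1 : Irreducible (g.map (algebraMap _ Fx)) := hm.irreducible_iff_irreducible_map_fraction_map.mp hirr
  have h2 : Irreducible ((g.map (algebraMap _ Fx)).map (e : Fx →+* RatFunc K)) :=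
    (MulEquiv.irreducible_iff (Polynomial.mapEquiv e).toMulEquiv).mpr h1
  rw [Polynomial.map_map, show (e : Fx →+* RatFunc K).comp (algebraMap _ Fx) =
    (algebraMap K[X] (RatFunc K)).comp Ψ from RingHom.ext hθ, ← Polynomial.map_map] at h2
  exact (hm.map Ψ).irreducible_iff_irreducible_map_fraction_map.mpr h2

/-- **The good lines.** Outside a hypersurface in the space of lines, an absolutely irreducible
separable hypersurface restricts to an absolutely irreducible separable curve. -/
theorem exists_line_locus {g : (MvPolynomial (Fin (s + 1)) k)[X]} (hm : g.Monic) (hder : g.derivative ≠ 0)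
    (hirr : Irreducible (g.map (MvPolynomial.map (algebraMap k (AlgebraicClosure k))))) :
    ∃ Φ : MvPolynomial (Fin s ⊕ Fin s) k, Φ ≠ 0 ∧
      ∀ (L : Type u) [Field L] [IsAlgClosed L] (φ : k →+* L) (a w : Fin s → L),
        MvPolynomial.eval₂ φ (Sum.elim a w) Φ ≠ 0 →
          Irreducible (g.map (lineHom φ a w)) ∧ (g.map (lineHom φ a w)).derivative ≠ 0 := by
  classical
  let kb := AlgebraicClosure k
  let ι : k →+* kb := algebraMap k kb
  let gb := g.map (MvPolynomial.map ι)
  have hgbm : gb.Monic := hm.map _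
  have hgbd : gb.derivative ≠ 0 := by
    rw [derivative_map]
    exact (Polynomial.map_ne_zero_iff (MvPolynomial.map_injective ι ι.injective)).mpr hder
  obtain ⟨c, r, t, hc, hrt⟩ := (exists_bezout hgbm hirr gb.derivative).resolve_left fun hdvd =>
    hgbd (eq_zero_of_dvd_of_degree_lt hdvd (degree_derivative_lt hgbm.ne_zero))
  obtain ⟨P, hP⟩ : ∃ P : Fin (s + 1) → kb, MvPolynomial.eval P c ≠ 0 := by
    by_contra! hall
    exact hc (MvPolynomial.funext fun P => by rw [hall P, map_zero])
  have hd : 0 < gb.natDegree := Nat.pos_of_ne_zero fun h0 => (show Irreducible gb from hirr).not_isUnit (by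
    rw [eq_one_of_monic_natDegree_zero hgbm h0]; exact isUnit_one)
  obtain ⟨b, hb⟩ := IsAlgClosed.exists_root (gb.map (MvPolynomial.eval P)) (by
    rw [degree_eq_natDegree (hgbm.map _).ne_zero, hgbm.natDegree_map]
    exact_mod_cast hd.ne')
  have hb' : (gb.derivative.map (MvPolynomial.eval P)).eval b ≠ 0 := fun h0 => hP (by
    have := congrArg (fun f : (MvPolynomial (Fin (s + 1)) kb)[X] => (f.map (MvPolynomial.eval P)).eval b) hrt
    simpa [h0, show (gb.map (MvPolynomial.eval P)).eval b = 0 from hb] using this.symm)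
  let K := FractionRing (MvPolynomial (Fin s) kb)
  let a₁ : Fin s → K := fun i =>
    algebraMap kb K (P i.succ) - algebraMap (MvPolynomial (Fin s) kb) K (MvPolynomial.X i) * algebraMap kb K (P 0)
  let w₁ : Fin s → K := fun i => algebraMap (MvPolynomial (Fin s) kb) K (MvPolynomial.X i)
  have hirr1 := irreducible_generic_line P hgbm hirr
  set h := gb.map (lineHom (algebraMap kb K) a₁ w₁) with hhdef
  have hev : ∀ f : (MvPolynomial (Fin (s + 1)) kb)[X],
      (f.map (lineHom (algebraMap kb K) a₁ w₁)).evalEval (algebraMap kb K (P 0)) (algebraMap kb K b) =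
        algebraMap kb K ((f.map (MvPolynomial.eval P)).eval b) := by
    intro f
    have hpt : (Fin.cons (algebraMap kb K (P 0)) fun i => a₁ i + w₁ i * algebraMap kb K (P 0)) = algebraMap kb K ∘ P := by
      funext i
      induction i using Fin.cases <;> simp [a₁, w₁]
    have hcomp : (evalRingHom (algebraMap kb K (P 0))).comp (lineHom (algebraMap kb K) a₁ w₁) =
        (algebraMap kb K).comp (MvPolynomial.eval P) := RingHom.ext fun p => by
      rw [RingHom.comp_apply, coe_evalRingHom, eval_lineHom, hpt, RingHom.comp_apply]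
      exact (MvPolynomial.eval₂_comp _ _ _).symm
    rw [← map_evalRingHom_eval, Polynomial.map_map, hcomp, ← Polynomial.map_map, eval_map_apply]
  have hab : h.evalEval (algebraMap kb K (P 0)) (algebraMap kb K b) = 0 := by
    rw [hev, show (gb.map (MvPolynomial.eval P)).eval b = 0 from hb, map_zero]
  have hs : h.derivative.evalEval (algebraMap kb K (P 0)) (algebraMap kb K b) ≠ 0 := by
    rw [hhdef, derivative_map, hev, _root_.map_ne_zero]
    exact hb'
  have hirr2 := irreducible_closure_of_simple_point (AlgebraicClosure K) (hgbm.map _) hirr1 hab hs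
  let R := MvPolynomial (Fin s ⊕ Fin s) k
  let H : (R[X])[X] := g.map (lineHom MvPolynomial.C (fun i => MvPolynomial.X (Sum.inl i)) fun i => MvPolynomial.X (Sum.inr i))
  let L₀ := AlgebraicClosure K
  let χ₁ : R →+* K := MvPolynomial.eval₂Hom ((algebraMap kb K).comp ι) (Sum.elim a₁ w₁)
  have hχ : ∀ {S : Type u} [CommRing S] (φ : k →+* S) (a w : Fin s → S),
      bmap (MvPolynomial.eval₂Hom φ (Sum.elim a w)) H = g.map (lineHom φ a w) := fun φ a w => by
    rw [coe_mapRingHom, Polynomial.map_map, lineHom_comp]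
    congr 2
    · exact RingHom.ext fun c => MvPolynomial.eval₂Hom_C _ _ _
    · funext i; simp
    · funext i; simp
  have hH1 : bmap χ₁ H = h := by
    rw [hχ, hhdef, Polynomial.map_map]
    congr 1
    refine MvPolynomial.ringHom_ext (fun c => ?_) fun i => ?_
    · simp [lineHom]
    · induction i using Fin.cases <;> simp [lineHom]
  have hHm : H.Monic := hm.map _
  have hirr0 : Irreducible (bmap ((algebraMap K L₀).comp χ₁) H) := by
    rw [← bmap_bmap, hH1]; exact hirr2
  obtain ⟨Φ, hΦ, hloc⟩ := exists_locus.{u, u, u} hHm (M := (Finset.range (H.natDegree + 1)).sup fun i => (H.coeff i).natDegree)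
    (fun i => by
      by_cases hi : i ≤ H.natDegree
      · exact Finset.le_sup (f := fun i => (H.coeff i).natDegree) (Finset.mem_range_succ_iff.mpr hi)
      · rw [coeff_eq_zero_of_natDegree_lt (not_le.mp hi)]; simp) _ hirr0
  obtain ⟨i, j, hij⟩ : ∃ i j, χ₁ ((H.derivative.coeff i).coeff j) ≠ 0 := by
    by_contra! hall
    refine hs ?_
    rw [← hH1, coe_mapRingHom, derivative_map]
    have : bmap χ₁ H.derivative = 0 := Polynomial.ext fun i => Polynomial.ext fun j => by
      simp only [coe_mapRingHom, coeff_map, coeff_zero, hall i j]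
    rw [← coe_mapRingHom, this, evalEval_zero]
  refine ⟨Φ * (H.derivative.coeff i).coeff j, mul_ne_zero hΦ fun h0 => hij (by rw [h0, map_zero]), ?_⟩
  intro L _ _ φ a w hne
  rw [MvPolynomial.eval₂_mul, mul_ne_zero_iff] at hne
  refine ⟨hχ φ a w ▸ hloc L _ hne.1, fun h0 => hne.2 ?_⟩
  rw [← hχ φ a w, coe_mapRingHom, derivative_map] at h0
  simpa [coeff_map] using congrArg (fun q : (L[X])[X] => (q.coeff i).coeff j) h0

end Line

end Groth.Agent.ZH85.LangWeil
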