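import Groth.Agent.ZH85.LangWeil.Domain
import Mathlib.FieldTheory.AlgebraicClosure
import Mathlib.FieldTheory.Finite.GaloisField
import Mathlib.RingTheory.AlgebraicIndependent.AlgebraicClosure
import Mathlib.RingTheory.Localization.LocalizationLocalization

/-! Lang–Weil for an affine domain, with the field of constants. -/

noncomputable section

set_option linter.unusedSectionVars false
set_option linter.style.haveILetI false

universe u

open Polynomial

namespace Groth.Agent.ZH85.LangWeil

open Groth.Agent.ZH85.PtLow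

/-- The constants of a field with a model are finite over the ground field. -/
theorem finiteDimensional_algebraicClosure {k L : Type u} [Field k] [Field L] [Algebra k L] {n : ℕ}
    {x : Fin n → L} {y : L} {g : (MvPolynomial (Fin n) k)[X]} (hM : IsModel x y g) :
    FiniteDimensional k (algebraicClosure k L) := by
  classical
  haveI : Algebra.IsAlgebraic k (algebraicClosure k L) := algebraicClosure.isAlgebraic k L
  have hxK : AlgebraicIndependent (algebraicClosure k L) x := hM.indep.extendScalars (algebraicClosure k L)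
  suffices h : Module.rank k (algebraicClosure k L) ≤ g.natDegree by
    exact Module.rank_lt_aleph0_iff.mp (h.trans_lt Cardinal.natCast_lt_aleph0)
  refine rank_le fun s hs => ?_
  choose p e he hp using fun z : L => hM.gen z
  let v : s → Fin g.natDegree → MvPolynomial (Fin n) k := fun c i => (p (c.1 : L) %ₘ g).coeff i
  suffices hv : LinearIndependent (MvPolynomial (Fin n) k) v by
    have := hv.fintype_card_le_finrank
    rwa [Fintype.card_coe, Module.finrank_pi, Fintype.card_fin] at this
  rw [Fintype.linearIndependent_iff]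
  intro a ha
  have h0 : ∑ c : s, C (a c) * (p (c.1 : L) %ₘ g) = 0 := by
    refine Polynomial.ext fun i => ?_
    rw [finsetSum_coeff, coeff_zero]
    simp only [coeff_C_mul]
    by_cases hi : i < g.natDegree
    · have := congrFun ha ⟨i, hi⟩
      simpa [v, Finset.sum_apply] using this
    · refine Finset.sum_eq_zero fun c _ => ?_
      rw [coeff_eq_zero_of_degree_lt, mul_zero]
      refine (degree_modByMonic_lt _ hM.monic).trans_le ?_
      rw [degree_eq_natDegree hM.monic.ne_zero]
      exact Nat.cast_le.mpr (not_lt.mp hi)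
  have h1 : MvPolynomial.aeval x (∑ c : s, MvPolynomial.C (c.1 : algebraicClosure k L) *
      MvPolynomial.map (algebraMap k (algebraicClosure k L)) (a c * e (c.1 : L))) = 0 := by
    have h2 := congrArg (pev x y) h0
    rw [map_zero, map_sum] at h2
    rw [map_sum, ← h2]
    refine Finset.sum_congr rfl fun c _ => ?_
    have h3 : pev x y (p (c.1 : L) %ₘ g) = pev x y (p (c.1 : L)) := by
      conv_rhs => rw [← modByMonic_add_div (p (c.1 : L)) g]
      rw [map_add, map_mul, hM.root, zero_mul, add_zero]
    simp only [map_mul, pev_C, h3, ← hp, MvPolynomial.aeval_C, MvPolynomial.aeval_map_algebraMap,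
      IntermediateField.algebraMap_apply]
    ring
  have h4 := hxK.eq_zero_of_aeval_eq_zero _ h1
  intro c
  have hes : e (c.1 : L) ≠ 0 := fun h5 => he (c.1 : L) (by rw [h5, map_zero])
  suffices h : a c * e (c.1 : L) = 0 from (mul_eq_zero.mp h).resolve_right hes
  refine MvPolynomial.ext _ _ fun m => ?_
  have h6 := congrArg (MvPolynomial.coeff m) h4
  rw [MvPolynomial.coeff_sum, MvPolynomial.coeff_zero] at h6
  rw [MvPolynomial.coeff_zero]
  refine Fintype.linearIndependent_iff.mp hs (fun c => MvPolynomial.coeff m (a c * e (c.1 : L))) ?_ c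
  rw [← h6]
  refine Finset.sum_congr rfl fun c _ => ?_
  rw [MvPolynomial.coeff_C_mul, MvPolynomial.coeff_map, Algebra.smul_def, mul_comm]

/-- The number of embeddings of a finite field into a finite field. -/
theorem card_algHom_finiteField (k K F : Type u) [Field k] [Field K] [Field F] [Algebra k K] [Algebra k F]
    [Finite k] [Finite K] [Finite F] :
    (Module.finrank k K ∣ Module.finrank k F → Nat.card (K →ₐ[k] F) = Module.finrank k K) ∧
      (¬ Module.finrank k K ∣ Module.finrank k F → IsEmpty (K →ₐ[k] F)) := by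
  haveI : FiniteDimensional k K := Module.Finite.of_finite
  haveI : FiniteDimensional k F := Module.Finite.of_finite
  refine ⟨fun h => ?_, fun h => ?_⟩
  · obtain ⟨τ⟩ := FiniteField.nonempty_algHom_iff_finrank_dvd.mpr h
    refine le_antisymm ?_ ?_
    · exact card_algHom_le_finrank k K F
    · rw [← IsGalois.card_aut_eq_finrank k K]
      exact Nat.card_le_card_of_injective (fun σ : Gal(K/k) => τ.comp σ.toAlgHom) fun σ σ' hσ =>
        AlgEquiv.ext fun z => τ.injective (DFunLike.congr_fun hσ z)
  · exact not_nonempty_iff.mp fun hne => h (FiniteField.nonempty_algHom_iff_finrank_dvd.mp hne)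

variable (k : Type u) [Field k] [Finite k] (A : Type u) [CommRing A] [IsDomain A] [Algebra k A]
  [Algebra.FiniteType k A]

theorem trdeg_fractionField (L : Type u) [Field L] [Algebra A L] [IsFractionRing A L] [Algebra k L]
    [IsScalarTower k A L] : Algebra.trdeg k L = Algebra.trdeg k A := by
  haveI : FaithfulSMul A L := (faithfulSMul_iff_algebraMap_injective _ _).2 (IsFractionRing.injective A L)
  have h := lift_trdeg_add_eq k A L
  haveI : Algebra.IsAlgebraic A L := IsLocalization.isAlgebraic L (nonZeroDivisors A)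
  rw [trdeg_eq_zero (R := A) (A := L), Cardinal.lift_zero, add_zero, Cardinal.lift_id,
    Cardinal.lift_id] at h
  exact h.symm

/-- The field of constants of an affine domain over a finite field is finite. -/
theorem finite_constants : Finite (algebraicClosure k (FractionRing A)) := by
  haveI : Algebra.EssFiniteType A (FractionRing A) :=
    Algebra.EssFiniteType.of_isLocalization _ (nonZeroDivisors A)
  haveI : Algebra.EssFiniteType k (FractionRing A) := Algebra.EssFiniteType.comp k A _
  obtain ⟨n, x, y, g, -, hM⟩ := exists_model_perfect k (FractionRing A)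
  haveI := finiteDimensional_algebraicClosure hM
  exact Module.finite_of_finite k

/-- **Lang–Weil for an affine domain**: `m` geometric components, conjugate over `k`. -/
theorem domain_card_constants (r : ℕ) (hr : ringKrullDim A = r) :
    ∃ c : ℕ, ∀ (F : Type u) [Field F] [Algebra k F] [Finite F],
      (Module.finrank k (algebraicClosure k (FractionRing A)) ∣ Module.finrank k F →
        |(Nat.card (A →ₐ[k] F) : ℝ) -
            Module.finrank k (algebraicClosure k (FractionRing A)) * (Nat.card F : ℝ) ^ r| ≤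
          c * ((Nat.card F : ℝ) ^ r / Real.sqrt (Nat.card F))) ∧
      (¬ Module.finrank k (algebraicClosure k (FractionRing A)) ∣ Module.finrank k F →
        (Nat.card (A →ₐ[k] F) : ℝ) ≤ c * ((Nat.card F : ℝ) ^ r / Nat.card F)) := by
  classical
  haveI := finite_constants k A
  let L := FractionRing A
  let KL := algebraicClosure k L
  let j : A →ₐ[k] L := IsScalarTower.toAlgHom k A L
  have hj : Function.Injective j := IsFractionRing.injective A L
  -- an open piece containing the constants
  have hfrac : ∀ z : KL, ∃ p q : A, q ≠ 0 ∧ (z : L) * j q = j p := fun z => by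
    obtain ⟨p, q, hq, h⟩ := IsFractionRing.div_surjective (A := A) (z : L)
    have hq' : algebraMap A L q ≠ 0 := (map_ne_zero_iff _ hj).mpr (nonZeroDivisors.ne_zero hq)
    exact ⟨p, q, nonZeroDivisors.ne_zero hq, by rw [← h]; exact div_mul_cancel₀ _ hq'⟩
  choose pn qn hqn hpn using hfrac
  have := Fintype.ofFinite KL
  let b : A := ∏ z : KL, qn z
  have hb : b ≠ 0 := Finset.prod_ne_zero_iff.mpr fun z _ => hqn z
  let A' := Localization.Away b
  have hle : Submonoid.powers b ≤ nonZeroDivisors A := powers_le_nonZeroDivisors_of_noZeroDivisors hb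
  haveI : IsDomain A' := IsLocalization.isDomain_localization hle
  let θ : A' →ₐ[k] L := IsLocalization.liftAlgHom (M := Submonoid.powers b) (f := j) (by
    rintro ⟨_, i, rfl⟩
    exact isUnit_iff_ne_zero.mpr (by rw [map_pow]; exact pow_ne_zero i ((map_ne_zero_iff _ hj).mpr hb)))
  have hθ : ∀ z, θ (algebraMap A A' z) = j z := fun z => IsLocalization.lift_eq _ z
  have hθi : Function.Injective θ := by
    show Function.Injective (IsLocalization.lift _)
    rw [IsLocalization.lift_injective_iff]
    refine fun u v => ⟨fun h => ?_, fun h => congrArg _ (hj h)⟩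
    have := congrArg θ h
    rwa [hθ, hθ] at this
  have hsur : ∀ z : KL, ∃ l : A', θ l = z := fun z => by
    obtain ⟨w, hw⟩ : qn z ∣ b := Finset.dvd_prod_of_mem qn (Finset.mem_univ z)
    refine ⟨IsLocalization.mk' A' (pn z * w) (⟨b, Submonoid.mem_powers b⟩ : Submonoid.powers b), ?_⟩
    refine mul_right_cancel₀ ((map_ne_zero_iff _ hj).mpr hb) ?_
    rw [← hθ b, ← map_mul, IsLocalization.mk'_spec A', hθ, hθ, hw, map_mul, map_mul, ← hpn z, mul_assoc]
  choose σ hσ using hsur
  let σ' : KL →ₐ[k] A' :=
    { toFun := σ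
      map_one' := hθi (by rw [hσ, map_one]; rfl)
      map_mul' := fun u v => hθi (by rw [map_mul, hσ, hσ, hσ]; rfl)
      map_zero' := hθi (by rw [hσ, map_zero]; rfl)
      map_add' := fun u v => hθi (by rw [map_add, hσ, hσ, hσ]; rfl)
      commutes' := fun c => hθi (by rw [hσ, AlgHom.commutes]; rfl) }
  letI : Algebra KL A' := σ'.toRingHom.toAlgebra
  haveI : IsScalarTower k KL A' := IsScalarTower.of_algebraMap_eq fun c => (σ'.commutes c).symm
  haveI : Algebra.FiniteType A A' := IsLocalization.finiteType_of_monoid_fg (Submonoid.powers b) A'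
  haveI : Algebra.FiniteType k A' := Algebra.FiniteType.trans (R := k) (S := A) (A := A') inferInstance inferInstance
  haveI : Algebra.FiniteType KL A' := Algebra.FiniteType.of_restrictScalars_finiteType k KL A'
  letI : Algebra A' L := θ.toRingHom.toAlgebra
  haveI : IsScalarTower A A' L := IsScalarTower.of_algebraMap_eq fun z => (hθ z).symm
  haveI : IsScalarTower k A' L := IsScalarTower.of_algebraMap_eq fun c => (θ.commutes c).symm
  haveI : IsScalarTower KL A' L := IsScalarTower.of_algebraMap_eq fun c => (hσ c).symm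
  haveI : IsFractionRing A' L :=
    IsFractionRing.isFractionRing_of_isDomain_of_isLocalization (Submonoid.powers b) A' L
  have hdim : ringKrullDim A' = r := by
    obtain ⟨m, hm, hmt⟩ := VarDim.exists_dim_eq_trdeg k A
    obtain ⟨m', hm', hmt'⟩ := VarDim.exists_dim_eq_trdeg k A'
    rw [hm', ← hr, hm]
    have h : (m' : Cardinal.{u}) = m := by
      rw [← hmt', ← hmt, ← trdeg_fractionField k A' L, ← trdeg_fractionField k A L]
    exact_mod_cast h
  haveI : Algebra.IsAlgebraic k KL := algebraicClosure.isAlgebraic k L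
  have hcl : ∀ z : FractionRing A', IsAlgebraic KL z → z ∈ Set.range (algebraMap KL (FractionRing A')) := by
    intro z hz
    let e : FractionRing A' ≃ₐ[KL] L := (FractionRing.algEquiv A' L).restrictScalars KL
    have h1 : IsAlgebraic KL (e z) := hz.algHom e.toAlgHom
    have h2 : IsAlgebraic k (e z) := h1.restrictScalars k
    refine ⟨⟨e z, mem_algebraicClosure_iff.mpr h2⟩, e.injective ?_⟩
    rw [AlgEquiv.commutes]
    rfl
  obtain ⟨c₁, hc₁⟩ := domain_card KL A' r hdim hcl
  -- few homomorphisms kill `b`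
  obtain ⟨c₂, hc₂⟩ : ∃ c₂ : ℕ, ∀ (F : Type u) [Field F] [Algebra k F] [Finite F],
      (Nat.card {φ : A →ₐ[k] F // φ b = 0} : ℝ) ≤ c₂ * ((Nat.card F : ℝ) ^ r / Nat.card F) := by
    rcases r with _ | s
    · haveI : Ring.KrullDimLE 0 A := ⟨le_of_eq hr⟩
      have hfield : IsField A := Ring.KrullDimLE.isField_of_isDomain
      refine ⟨0, fun F _ _ _ => ?_⟩
      have : IsEmpty {φ : A →ₐ[k] F // φ b = 0} := ⟨fun φ => by
        obtain ⟨w, hw⟩ := hfield.mul_inv_cancel hb
        have := congrArg φ.1 hw
        rw [map_mul, φ.2, zero_mul, map_one] at this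
        exact zero_ne_one this⟩
      simp
    · obtain ⟨c, hc⟩ := card_killing_le k A s hr b hb
      refine ⟨c, fun F _ _ _ => ?_⟩
      have hQ : (Nat.card F : ℝ) ≠ 0 := Nat.cast_ne_zero.mpr Nat.card_pos.ne'
      rw [pow_succ, mul_div_assoc, div_self hQ, mul_one]
      exact_mod_cast hc F
  refine ⟨Module.finrank k KL * c₁ + c₂, fun F _ _ _ => ?_⟩
  haveI : Finite (A →ₐ[k] F) := by
    obtain ⟨gens, hgens⟩ := Algebra.FiniteType.out (R := k) (A := A)
    exact Finite.of_injective (fun φ => fun z : gens => φ z.1) fun φ ψ h =>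
      AlgHom.ext_of_adjoin_eq_top hgens fun z hz => congrFun h ⟨z, hz⟩
  haveI : Finite (A' →ₐ[k] F) := by
    obtain ⟨gens, hgens⟩ := Algebra.FiniteType.out (R := k) (A := A')
    exact Finite.of_injective (fun φ => fun z : gens => φ z.1) fun φ ψ h =>
      AlgHom.ext_of_adjoin_eq_top hgens fun z hz => congrFun h ⟨z, hz⟩
  have hbunit : IsUnit (algebraMap A A' b) :=
    IsLocalization.map_units A' (⟨b, Submonoid.mem_powers b⟩ : Submonoid.powers b)
  let E₁ : (A' →ₐ[k] F) ≃ {φ : A →ₐ[k] F // φ b ≠ 0} :=
    { toFun := fun ψ => ⟨ψ.comp (IsScalarTower.toAlgHom k A A'), (hbunit.map ψ).ne_zero⟩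
      invFun := fun φ => IsLocalization.liftAlgHom (M := Submonoid.powers b) (f := φ.1) (by
        rintro ⟨_, i, rfl⟩
        exact isUnit_iff_ne_zero.mpr (by rw [map_pow]; exact pow_ne_zero i φ.2))
      left_inv := fun ψ => AlgHom.coe_ringHom_injective
        (IsLocalization.ringHom_ext (Submonoid.powers b) (RingHom.ext fun z => IsLocalization.lift_eq _ z))
      right_inv := fun φ => Subtype.ext (AlgHom.ext fun z => IsLocalization.lift_eq _ z) }
  let E₂ : (A' →ₐ[k] F) ≃ Σ τ : KL →ₐ[k] F, {ψ : A' →ₐ[k] F // ψ.comp σ' = τ} :=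
    (Equiv.sigmaFiberEquiv fun ψ : A' →ₐ[k] F => ψ.comp σ').symm
  have hτ : ∀ τ : KL →ₐ[k] F, |(Nat.card {ψ : A' →ₐ[k] F // ψ.comp σ' = τ} : ℝ) - (Nat.card F : ℝ) ^ r| ≤
      c₁ * ((Nat.card F : ℝ) ^ r / Real.sqrt (Nat.card F)) := fun τ => by
    letI : Algebra KL F := τ.toRingHom.toAlgebra
    haveI : IsScalarTower k KL F := IsScalarTower.of_algebraMap_eq fun c => (τ.commutes c).symm
    let E : {ψ : A' →ₐ[k] F // ψ.comp σ' = τ} ≃ (A' →ₐ[KL] F) :=
      { toFun := fun ψ => { ψ.1.toRingHom with commutes' := fun c => DFunLike.congr_fun ψ.2 c }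
        invFun := fun ψ => ⟨ψ.restrictScalars k, AlgHom.ext fun c => ψ.commutes c⟩
        left_inv := fun ψ => rfl
        right_inv := fun ψ => rfl }
    rw [Nat.card_congr E]
    exact hc₁ F
  have hsplit : Nat.card (A →ₐ[k] F) = Nat.card (A' →ₐ[k] F) + Nat.card {φ : A →ₐ[k] F // φ b = 0} := by
    rw [Nat.card_congr E₁, add_comm, ← Nat.card_sum]
    exact Nat.card_congr (Equiv.sumCompl _).symm
  have h3 := hc₂ F
  set Q : ℝ := (Nat.card F : ℝ) with hQ
  have hQ1 : 1 ≤ Q := by rw [hQ]; exact_mod_cast (Nat.card_pos : 0 < Nat.card F)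
  have hQS : Q ^ r / Q ≤ Q ^ r / Real.sqrt Q := by
    gcongr
    exact Real.sqrt_le_left (by linarith) |>.mpr (by nlinarith)
  have h4 : (0 : ℝ) ≤ Q ^ r / Real.sqrt Q := by positivity
  have h5 : (0 : ℝ) ≤ Q ^ r / Q := by positivity
  obtain ⟨hd, hnd⟩ := card_algHom_finiteField k KL F
  refine ⟨fun h => ?_, fun h => ?_⟩
  · have := Fintype.ofFinite (KL →ₐ[k] F)
    have hcard : Fintype.card (KL →ₐ[k] F) = Module.finrank k KL := by
      rw [← Nat.card_eq_fintype_card]; exact hd h
    have hN : |(Nat.card (A' →ₐ[k] F) : ℝ) - Module.finrank k KL * Q ^ r| ≤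
        Module.finrank k KL * (c₁ * (Q ^ r / Real.sqrt Q)) := by
      rw [Nat.card_congr E₂, Nat.card_sigma, Nat.cast_sum,
        show (Module.finrank k KL : ℝ) * Q ^ r = ∑ _τ : KL →ₐ[k] F, Q ^ r by simp [hcard],
        ← Finset.sum_sub_distrib]
      refine (Finset.abs_sum_le_sum_abs _ _).trans ((Finset.sum_le_sum fun τ _ => hτ τ).trans_eq ?_)
      simp [hcard]
    have h6 : (Nat.card (A →ₐ[k] F) : ℝ) =
        Nat.card (A' →ₐ[k] F) + Nat.card {φ : A →ₐ[k] F // φ b = 0} := by rw [hsplit, Nat.cast_add]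
    have h7 : (Nat.card {φ : A →ₐ[k] F // φ b = 0} : ℝ) ≤ c₂ * (Q ^ r / Real.sqrt Q) :=
      h3.trans (mul_le_mul_of_nonneg_left hQS (Nat.cast_nonneg _))
    have h8 := abs_le.mp hN
    have h9 : (0 : ℝ) ≤ Nat.card {φ : A →ₐ[k] F // φ b = 0} := Nat.cast_nonneg _
    have h10 : (0 : ℝ) ≤ (c₂ : ℝ) * (Q ^ r / Real.sqrt Q) := mul_nonneg (Nat.cast_nonneg _) h4
    show |(Nat.card (A →ₐ[k] F) : ℝ) - Module.finrank k KL * Q ^ r| ≤ _
    rw [abs_le, Nat.cast_add, Nat.cast_mul, add_mul, mul_assoc]
    constructor <;> linarith [h8.1, h8.2]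
  · haveI := hnd h
    haveI : IsEmpty (A' →ₐ[k] F) := Function.isEmpty fun ψ : A' →ₐ[k] F => ψ.comp σ'
    rw [hsplit, Nat.card_of_isEmpty, zero_add]
    refine h3.trans ?_
    gcongr
    exact Nat.le_add_left _ _

end Groth.Agent.ZH85.LangWeil
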