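import Mathlib.RingTheory.Polynomial.GaussLemma
import Mathlib.RingTheory.Polynomial.IsIntegral
import Mathlib.RingTheory.Polynomial.UniqueFactorization
import Mathlib.FieldTheory.RatFunc.Basic
import Mathlib.FieldTheory.IsAlgClosed.Basic
import Mathlib.RingTheory.Ideal.GoingUp
import Mathlib.Algebra.Polynomial.Bivariate
import Mathlib.RingTheory.Localization.FractionRing
import Mathlib.FieldTheory.IsAlgClosed.AlgebraicClosure
import Mathlib.Algebra.MvPolynomial.Eval

/-! Monic factorisations of bivariate polynomials under specialisation. -/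

noncomputable section

set_option linter.unusedSectionVars false
set_option linter.style.haveILetI false

universe u v w

open Polynomial

namespace Groth.Agent.ZH85.LangWeil

attribute [local instance] Polynomial.algebra

/-- Apply a homomorphism to the coefficients of a bivariate polynomial. -/
abbrev bmap {R : Type u} {S : Type v} [CommRing R] [CommRing S] (φ : R →+* S) : (R[X])[X] →+* (S[X])[X] :=
  Polynomial.mapRingHom (Polynomial.mapRingHom φ)

theorem bmap_bmap {R : Type u} {S : Type v} {T : Type w} [CommRing R] [CommRing S] [CommRing T]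
    (φ : R →+* S) (ψ : S →+* T) (h : (R[X])[X]) : bmap ψ (bmap φ h) = bmap (ψ.comp φ) h := by
  show (h.map _).map _ = h.map _
  rw [Polynomial.map_map, Polynomial.mapRingHom_comp]

theorem bmap_monic {R : Type u} {S : Type v} [CommRing R] [CommRing S] (φ : R →+* S) {h : (R[X])[X]}
    (hm : h.Monic) : (bmap φ h).Monic := hm.map _

theorem bmap_natDegree {R : Type u} {S : Type v} [CommRing R] [CommRing S] [Nontrivial S] (φ : R →+* S)
    {h : (R[X])[X]} (hm : h.Monic) : (bmap φ h).natDegree = h.natDegree :=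
  hm.natDegree_map _

/-- A homomorphism into an algebraically closed field extends to an integral extension. -/
theorem exists_extend {R O Ω : Type*} [CommRing R] [CommRing O] [Field Ω] [IsAlgClosed Ω]
    [Algebra R O] [Algebra.IsIntegral R O] (hinj : Function.Injective (algebraMap R O)) (χ : R →+* Ω) :
    ∃ χ' : O →+* Ω, χ'.comp (algebraMap R O) = χ := by
  haveI := RingHom.ker_isPrime χ
  obtain ⟨Q, -, hQp, hQ⟩ := Ideal.exists_ideal_over_prime_of_isIntegral (RingHom.ker χ) (⊥ : Ideal O)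
    (by rw [← RingHom.ker_eq_comap_bot, (RingHom.injective_iff_ker_eq_bot _).mp hinj]; exact bot_le)
  haveI := hQp
  haveI : Q.LiesOver (RingHom.ker χ) := ⟨hQ.symm⟩
  letI : Algebra (R ⧸ RingHom.ker χ) Ω := (RingHom.kerLift χ).toAlgebra
  haveI : FaithfulSMul (R ⧸ RingHom.ker χ) Ω :=
    (faithfulSMul_iff_algebraMap_injective _ _).mpr (RingHom.kerLift_injective χ)
  haveI : Algebra.IsIntegral (R ⧸ RingHom.ker χ) (O ⧸ Q) := inferInstance
  haveI : Algebra.IsAlgebraic (R ⧸ RingHom.ker χ) (O ⧸ Q) := Algebra.IsIntegral.isAlgebraic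
  let l : O ⧸ Q →ₐ[R ⧸ RingHom.ker χ] Ω := IsAlgClosed.lift
  refine ⟨l.toRingHom.comp (Ideal.Quotient.mk Q), RingHom.ext fun r => ?_⟩
  exact l.commutes (Ideal.Quotient.mk _ r)

/-- **Specialisation.** Irreducible after specialisation implies irreducible. -/
theorem irreducible_of_specialization {R K Ω : Type*} [CommRing R] [Field K] [Algebra R K] [Field Ω]
    [IsAlgClosed Ω] (hinj : Function.Injective (algebraMap R K)) (χ : R →+* Ω) {H : (R[X])[X]}
    (hm : H.Monic) (hirr : Irreducible (bmap χ H)) : Irreducible (bmap (algebraMap R K) H) := by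
  classical
  set O := integralClosure R K
  obtain ⟨χ', hχ'⟩ := exists_extend (O := O) (fun a b hab => hinj (congrArg Subtype.val hab)) χ
  letI : Algebra (R[X]) (RatFunc K) := ((algebraMap K[X] (RatFunc K)).comp (mapRingHom (algebraMap R K))).toAlgebra
  have hlift : ∀ f : (K[X])[X], f.Monic → f ∣ bmap (algebraMap R K) H →
      ∃ f₀ : (O[X])[X], bmap (algebraMap O K) f₀ = f ∧ f₀.Monic := by
    intro f hf hdvd
    have h1 := integralClosure.mem_lifts_of_monic_of_dvd_map (RatFunc K) hm
      (hf.map (algebraMap K[X] (RatFunc K))) (g := f.map (algebraMap K[X] (RatFunc K))) (by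
        have := Polynomial.map_dvd (algebraMap K[X] (RatFunc K)) hdvd
        rwa [show (bmap (algebraMap R K) H).map (algebraMap K[X] (RatFunc K)) =
          H.map (algebraMap (R[X]) (RatFunc K)) from Polynomial.map_map _ _ H] at this)
    have hcoef : ∀ i j, IsIntegral R ((f.coeff i).coeff j) := fun i j => by
      obtain ⟨c, hc⟩ := (lifts_iff_coeff_lifts _).mp h1 i
      rw [coeff_map] at hc
      have hint : IsIntegral (R[X]) (algebraMap K[X] (RatFunc K) (f.coeff i)) := hc ▸ c.2
      obtain ⟨p, hp, hp0⟩ := hint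
      have h2 : IsIntegral (R[X]) (f.coeff i) := by
        refine ⟨p, hp, RatFunc.algebraMap_injective K ?_⟩
        rw [map_zero, hom_eval₂]
        exact hp0
      exact Polynomial.isIntegral_iff_isIntegral_coeff.mp h2 j
    have hmem : f ∈ lifts (mapRingHom (algebraMap O K)) := by
      rw [lifts_iff_coeff_lifts]
      intro i
      have : f.coeff i ∈ lifts (algebraMap O K) := by
        rw [lifts_iff_coeff_lifts]
        exact fun j => ⟨⟨_, hcoef i j⟩, rfl⟩
      exact this
    obtain ⟨f₀, hf₀, -, hf₀m⟩ := lifts_and_natDegree_eq_and_monic hmem hf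
    exact ⟨f₀, hf₀, hf₀m⟩
  have hm' := bmap_monic (algebraMap R K) hm
  have hd : (bmap χ H).natDegree ≠ 0 := fun h0 => hirr.not_isUnit
    (by rw [eq_one_of_monic_natDegree_zero (bmap_monic χ hm) h0]; exact isUnit_one)
  rw [hm'.irreducible_iff_natDegree]
  refine ⟨fun h1 => hd ?_, fun f g hf hg hfg => ?_⟩
  · rw [bmap_natDegree χ hm, ← bmap_natDegree (algebraMap R K) hm, h1, natDegree_one]
  obtain ⟨f₀, hf₀, hf₀m⟩ := hlift f hf ⟨g, hfg.symm⟩
  obtain ⟨g₀, hg₀, hg₀m⟩ := hlift g hg ⟨f, by rw [← hfg, mul_comm]⟩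
  have hprod : f₀ * g₀ = bmap (algebraMap R O) H := by
    apply Polynomial.map_injective (mapRingHom (algebraMap O K))
      (Polynomial.map_injective (algebraMap O K) Subtype.val_injective)
    show bmap (algebraMap O K) (f₀ * g₀) = bmap (algebraMap O K) (bmap (algebraMap R O) H)
    rw [map_mul, hf₀, hg₀, bmap_bmap, ← IsScalarTower.algebraMap_eq, hfg]
  have himg : bmap χ H = bmap χ' f₀ * bmap χ' g₀ := by
    rw [← map_mul, hprod, bmap_bmap, hχ']
  rw [← hf₀, ← hg₀, bmap_natDegree _ hf₀m, bmap_natDegree _ hg₀m]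
  have h2 := ((bmap_monic χ hm).irreducible_iff_natDegree.mp hirr).2 _ _
    (bmap_monic χ' hf₀m) (bmap_monic χ' hg₀m) himg.symm
  rwa [bmap_natDegree χ' hf₀m, bmap_natDegree χ' hg₀m] at h2

/-- A monic factor of `H` has coefficients of bounded degree. -/
theorem factor_degree_le {A : Type*} [CommRing A] [IsDomain A] {f g : (A[X])[X]} (hf : f.Monic) (hg : g.Monic)
    {M : ℕ} (hH : ∀ i, ((f * g).coeff i).natDegree ≤ M) (i : ℕ) :
    (f.coeff i).natDegree ≤ (f * g).natDegree * (M + 1) + M := by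
  classical
  -- the weight: `t ↦ s`, `Y ↦ Y s^(M+1)`
  set N := M + 1
  let w : (A[X])[X] →+* (A[X])[X] :=
    eval₂RingHom (eval₂RingHom ((C : A[X] →+* (A[X])[X]).comp C) X) (C X * X ^ N)
  have hw : ∀ p : (A[X])[X], ∀ i j, ((w p).coeff (i * N + j)).coeff i =
      ∑ l ∈ p.support, ((w (C (p.coeff l) * X ^ l)).coeff (i * N + j)).coeff i := fun p i j => by
    conv_lhs => rw [p.as_sum_support_C_mul_X_pow]
    rw [map_sum, finsetSum_coeff, finsetSum_coeff]
  have hmono : ∀ (c : A[X]) (l i J : ℕ), ((w (C c * X ^ l)).coeff J).coeff i =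
      if i = l ∧ l * N ≤ J then c.coeff (J - l * N) else 0 := fun c l i J => by
    have h1 : w (C c * X ^ l) = eval₂RingHom ((C : A[X] →+* (A[X])[X]).comp C) X c * (C (X ^ l) * X ^ (l * N)) := by
      simp [w, mul_pow, ← pow_mul, mul_comm l N]
    rw [h1]
    clear h1
    induction c using Polynomial.induction_on' with
    | add c d hc hd =>
      rw [map_add, add_mul, coeff_add, coeff_add, hc, hd, Polynomial.coeff_add]
      split_ifs <;> simp
    | monomial n a =>
      simp only [coe_eval₂RingHom, eval₂_monomial, RingHom.comp_apply]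
      rw [show (C (C a) : (A[X])[X]) * X ^ n * (C (X ^ l) * X ^ (l * N)) = C (C a * X ^ l) * X ^ (n + l * N) by
        rw [map_mul, pow_add]; ring, coeff_C_mul_X_pow, Polynomial.coeff_monomial]
      by_cases hJ : J = n + l * N
      · subst hJ
        rw [if_pos rfl, coeff_C_mul_X_pow]
        by_cases hi : i = l <;> simp [hi]
      · rw [if_neg hJ, coeff_zero]
        split_ifs with h1 h2 <;> first | rfl | omega
  have hcoef : ∀ p : (A[X])[X], ∀ i j, ((w p).coeff (i * N + j)).coeff i = (p.coeff i).coeff j := fun p i j => by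
    rw [hw, Finset.sum_eq_single i]
    · rw [hmono, if_pos ⟨rfl, by omega⟩, Nat.add_sub_cancel_left]
    · exact fun l _ hl => by rw [hmono, if_neg fun h => hl h.1.symm]
    · exact fun hi => by rw [hmono, notMem_support_iff.mp hi]; simp
  have hlow : ∀ p : (A[X])[X], ∀ i j, (p.coeff i).coeff j ≠ 0 → i * N + j ≤ (w p).natDegree := fun p i j h =>
    le_natDegree_of_ne_zero fun h0 => h (by rw [← hcoef, h0, coeff_zero])
  have hne : ∀ p : (A[X])[X], p.Monic → w p ≠ 0 := fun p hp h0 => by
    have := hcoef p p.natDegree 0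
    rw [h0, coeff_zero, coeff_zero, show p.coeff p.natDegree = 1 from hp.coeff_natDegree, coeff_one_zero] at this
    exact zero_ne_one this
  have htop : (w (f * g)).natDegree ≤ (f * g).natDegree * N + M := by
    rw [natDegree_le_iff_coeff_eq_zero]
    intro J hJ
    ext i
    rw [coeff_zero]
    conv_lhs => rw [(f * g).as_sum_support_C_mul_X_pow]
    rw [map_sum, finsetSum_coeff, finsetSum_coeff]
    refine Finset.sum_eq_zero fun l hl => ?_
    rw [hmono]
    split_ifs with h
    · refine coeff_eq_zero_of_natDegree_lt ((hH l).trans_lt ?_)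
      have : l * N ≤ (f * g).natDegree * N := Nat.mul_le_mul_right N (le_natDegree_of_mem_supp l hl)
      omega
    · rfl
  rw [map_mul, natDegree_mul (hne f hf) (hne g hg)] at htop
  have hg0 := hlow g g.natDegree 0 (by rw [show g.coeff g.natDegree = 1 from hg.coeff_natDegree]; simp)
  rw [hf.natDegree_mul hg] at htop ⊢
  by_cases hc : f.coeff i = 0
  · simp [hc]
  have h1 := hlow f i (f.coeff i).natDegree (leadingCoeff_ne_zero.mpr hc)
  have h2 : i ≤ f.natDegree := le_natDegree_of_ne_zero hc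
  simp only [N] at *
  nlinarith

/-- The universal monic polynomial of degree `n` with prescribed coefficient variables. -/
def unk {S : Type*} [CommRing S] (B n : ℕ) (z : Fin n → Fin (B + 1) → S) : (S[X])[X] :=
  X ^ n + ∑ i : Fin n, C (∑ j : Fin (B + 1), C (z i j) * X ^ (j : ℕ)) * X ^ (i : ℕ)

theorem unk_monic {S : Type*} [CommRing S] [Nontrivial S] (B n : ℕ) (z : Fin n → Fin (B + 1) → S) :
    (unk B n z).Monic ∧ (unk B n z).natDegree = n := by
  have hlt : (∑ i : Fin n, C (∑ j : Fin (B + 1), C (z i j) * X ^ (j : ℕ)) * X ^ (i : ℕ) : (S[X])[X]).degree < n := by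
    refine (degree_sum_le _ _).trans_lt ((Finset.sup_lt_iff (WithBot.bot_lt_coe _)).mpr fun i _ => ?_)
    exact (degree_C_mul_X_pow_le _ _).trans_lt (WithBot.coe_lt_coe.mpr i.2)
  refine ⟨monic_X_pow_add hlt, natDegree_eq_of_degree_eq_some ?_⟩
  rw [unk, degree_add_eq_left_of_degree_lt (by rwa [degree_X_pow]), degree_X_pow]

theorem bmap_unk {S T : Type*} [CommRing S] [CommRing T] (ev : S →+* T) (B n : ℕ)
    (z : Fin n → Fin (B + 1) → S) (q : (T[X])[X]) (hq : q.Monic) (hqn : q.natDegree = n)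
    (hqb : ∀ i, (q.coeff i).natDegree ≤ B) (hz : ∀ i j, ev (z i j) = (q.coeff i).coeff j) :
    bmap ev (unk B n z) = q := by
  simp only [unk, map_add, map_pow, map_sum, map_mul, coe_mapRingHom, Polynomial.map_X, Polynomial.map_C]
  conv_rhs => rw [hq.as_sum, hqn, ← Fin.sum_univ_eq_sum_range]
  congr 1
  refine Finset.sum_congr rfl fun i _ => ?_
  congr 1
  conv_rhs => rw [as_sum_range' (q.coeff i) (B + 1) (Nat.lt_succ_of_le (hqb i)), ← Fin.sum_univ_eq_sum_range, map_sum]
  exact Finset.sum_congr rfl fun j _ => by rw [← C_mul_X_pow_eq_monomial, map_mul, map_pow, hz]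

/-- An ideal meeting the constants only in zero extends to a prime with the same property. -/
theorem exists_prime_point {R : Type u} {S : Type v} [CommRing R] [IsDomain R] [CommRing S] (c : R →+* S)
    (I : Ideal S) (hI : ∀ r, r ≠ 0 → c r ∉ I) :
    ∃ (K : Type v) (_ : Field K) (π : S →+* K), Function.Injective (π.comp c) ∧ ∀ s ∈ I, π s = 0 := by
  let Mon : Submonoid S := (nonZeroDivisors R).map c
  have hdisj : Disjoint (I : Set S) (Mon : Set S) := Set.disjoint_left.mpr fun s hs hs' => by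
    obtain ⟨r, hr, rfl⟩ := hs'
    exact hI r (nonZeroDivisors.ne_zero hr) hs
  obtain ⟨P, hPp, hIP, hPd⟩ := Ideal.exists_le_prime_disjoint I Mon hdisj
  haveI := hPp
  refine ⟨FractionRing (S ⧸ P), inferInstance,
    (algebraMap (S ⧸ P) (FractionRing (S ⧸ P))).comp (Ideal.Quotient.mk P), ?_, fun s hs => ?_⟩
  · rw [injective_iff_map_eq_zero]
    intro r hr
    by_contra hr0
    have h1 : (Ideal.Quotient.mk P) (c r) = 0 :=
      IsFractionRing.injective (S ⧸ P) (FractionRing (S ⧸ P)) (hr.trans (map_zero _).symm)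
    exact Set.disjoint_left.mp hPd (Ideal.Quotient.eq_zero_iff_mem.mp h1)
      ⟨r, mem_nonZeroDivisors_of_ne_zero hr0, rfl⟩
  · rw [RingHom.comp_apply, Ideal.Quotient.eq_zero_iff_mem.mpr (hIP hs), map_zero]

/-- The locus for one degree of a factor. -/
theorem exists_locus_degree {R : Type u} [CommRing R] [IsDomain R] {H : (R[X])[X]} (hm : H.Monic) {M : ℕ}
    (hM : ∀ i, (H.coeff i).natDegree ≤ M) {Ω₀ : Type v} [Field Ω₀] [IsAlgClosed Ω₀] (χ₀ : R →+* Ω₀)
    (hirr : Irreducible (bmap χ₀ H)) (e : ℕ) (he : 0 < e) (hed : e < H.natDegree) :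
    ∃ Φ : R, Φ ≠ 0 ∧ ∀ (Ω : Type w) [Field Ω] (χ : R →+* Ω),
      (∃ f g : (Ω[X])[X], f.Monic ∧ g.Monic ∧ f.natDegree = e ∧ f * g = bmap χ H) → χ Φ = 0 := by
  classical
  set d := H.natDegree with hddef
  set B := d * (M + 1) + M with hBdef
  let ι := (Fin e × Fin (B + 1)) ⊕ (Fin (d - e) × Fin (B + 1))
  let fU := unk B e fun i j => (MvPolynomial.X (Sum.inl (i, j)) : MvPolynomial ι R)
  let gU := unk B (d - e) fun i j => (MvPolynomial.X (Sum.inr (i, j)) : MvPolynomial ι R)
  let Δ := fU * gU - bmap MvPolynomial.C H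
  let I : Ideal (MvPolynomial ι R) := Ideal.span {s | ∃ i j, (Δ.coeff i).coeff j = s}
  have hex : ∃ Φ : R, Φ ≠ 0 ∧ MvPolynomial.C Φ ∈ I := by
    by_contra! hno
    obtain ⟨K, iK, π, hπ, hπI⟩ := exists_prime_point MvPolynomial.C I hno
    letI := iK
    letI : Algebra R K := (π.comp MvPolynomial.C).toAlgebra
    have hΔ : bmap π Δ = 0 := by
      ext i j
      simp only [coeff_zero, coe_mapRingHom, coeff_map]
      exact hπI _ (Ideal.subset_span ⟨i, j, rfl⟩)
    have hirrK := irreducible_of_specialization (K := K) hπ χ₀ hm hirr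
    have hfac : bmap (algebraMap R K) H = bmap π fU * bmap π gU := by
      rw [show (algebraMap R K) = π.comp MvPolynomial.C from rfl, ← bmap_bmap, ← map_mul, eq_comm, ← sub_eq_zero,
        ← map_sub]
      exact hΔ
    have h2 := ((bmap_monic _ hm).irreducible_iff_natDegree.mp hirrK).2 _ _
      (bmap_monic π (unk_monic B e _).1) (bmap_monic π (unk_monic B (d - e) _).1) hfac.symm
    rw [bmap_natDegree π (unk_monic B e _).1, bmap_natDegree π (unk_monic B (d - e) _).1, (unk_monic B e _).2,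
      (unk_monic B (d - e) _).2] at h2
    omega
  obtain ⟨Φ, hΦ0, hΦI⟩ := hex
  refine ⟨Φ, hΦ0, ?_⟩
  rintro Ω _ χ ⟨f, g, hf, hg, hfe, hfg⟩
  have hgd : g.natDegree = d - e := by
    have h1 := congrArg natDegree hfg
    rw [hf.natDegree_mul hg, bmap_natDegree χ hm, hfe] at h1
    omega
  have hdeg : ∀ i, ((f * g).coeff i).natDegree ≤ M := fun i => by
    rw [hfg]
    simp only [coe_mapRingHom, coeff_map]
    exact natDegree_map_le.trans (hM i)
  have hfgd : (f * g).natDegree = d := by rw [hfg, bmap_natDegree χ hm]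
  have hfb : ∀ i, (f.coeff i).natDegree ≤ B := fun i => (factor_degree_le hf hg hdeg i).trans (by rw [hfgd])
  have hgb : ∀ i, (g.coeff i).natDegree ≤ B := fun i =>
    (factor_degree_le hg hf (fun i => by rw [mul_comm]; exact hdeg i) i).trans (by rw [mul_comm g f, hfgd])
  let val : ι → Ω := Sum.elim (fun p => (f.coeff p.1).coeff p.2) (fun p => (g.coeff p.1).coeff p.2)
  let ev : MvPolynomial ι R →+* Ω := MvPolynomial.eval₂Hom χ val
  have hevX : ∀ q, ev (MvPolynomial.X q) = val q := fun q => MvPolynomial.eval₂Hom_X' _ _ _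
  have hΔ0 : bmap ev Δ = 0 := by
    rw [map_sub, map_mul, bmap_unk ev B e _ f hf hfe hfb (fun i j => hevX _),
      bmap_unk ev B (d - e) _ g hg hgd hgb (fun i j => hevX _),
      bmap_bmap, show ev.comp MvPolynomial.C = χ from RingHom.ext fun r => MvPolynomial.eval₂Hom_C _ _ _, hfg, sub_self]
  have hI : I ≤ RingHom.ker ev := Ideal.span_le.mpr fun s ⟨i, j, hs⟩ => by
    rw [SetLike.mem_coe, RingHom.mem_ker, ← hs]
    simpa [coeff_map] using congrArg (fun q : (Ω[X])[X] => (q.coeff i).coeff j) hΔ0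
  simpa [ev] using RingHom.mem_ker.mp (hI hΦI)

/-- **The irreducibility locus.** A monic polynomial which is irreducible at one geometric point is
irreducible at every geometric point outside a hypersurface. -/
theorem exists_locus {R : Type u} [CommRing R] [IsDomain R] {H : (R[X])[X]} (hm : H.Monic) {M : ℕ}
    (hM : ∀ i, (H.coeff i).natDegree ≤ M) {Ω₀ : Type v} [Field Ω₀] [IsAlgClosed Ω₀] (χ₀ : R →+* Ω₀)
    (hirr : Irreducible (bmap χ₀ H)) :
    ∃ Φ : R, Φ ≠ 0 ∧ ∀ (Ω : Type w) [Field Ω] [IsAlgClosed Ω] (χ : R →+* Ω), χ Φ ≠ 0 →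
      Irreducible (bmap χ H) := by
  classical
  set d := H.natDegree
  have key := exists_locus_degree.{u, v, w} hm hM χ₀ hirr
  choose Φ hΦ using key
  refine ⟨∏ e : {e : Fin d // 0 < (e : ℕ)}, Φ e.1 e.2 e.1.2,
    Finset.prod_ne_zero_iff.mpr fun e _ => (hΦ _ _ _).1, fun Ω _ _ χ hχ => ?_⟩
  have hd : d ≠ 0 := fun h0 => hirr.not_isUnit (by
    rw [eq_one_of_monic_natDegree_zero (bmap_monic χ₀ hm) (by rw [bmap_natDegree χ₀ hm]; exact h0)]
    exact isUnit_one)
  rw [(bmap_monic χ hm).irreducible_iff_natDegree]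
  refine ⟨fun h1 => hd (by rw [show d = H.natDegree from rfl, ← bmap_natDegree χ hm, h1, natDegree_one]),
    fun f g hf hg hfg => ?_⟩
  by_contra hcon
  push Not at hcon
  have hdeg := congrArg natDegree hfg
  rw [hf.natDegree_mul hg, bmap_natDegree χ hm] at hdeg
  have hed : f.natDegree < d := by
    have := hcon.2
    omega
  apply hχ
  rw [map_prod]
  exact Finset.prod_eq_zero (Finset.mem_univ ⟨⟨f.natDegree, hed⟩, Nat.pos_of_ne_zero hcon.1⟩)
    ((hΦ _ _ _).2 Ω χ ⟨f, g, hf, hg, rfl, hfg⟩)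

end Groth.Agent.ZH85.LangWeil
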