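import Groth.Agent.ZH85.PtLow.PlaneCount
import Groth.Agent.ZH85.LangWeil.Factor
import Mathlib.FieldTheory.IsAlgClosed.AlgebraicClosure

/-! Points on an absolutely irreducible plane curve over a finite field. -/

noncomputable section

set_option linter.unusedSectionVars false
set_option linter.style.haveILetI false

universe u

open Polynomial FunFld WithZero IntermediateField

namespace Groth.Agent.ZH85.LangWeil

open Groth.Agent.ZH85.PtLow

-- one path to the module structure of residue fields over the constants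
attribute [-instance] IsLocalRing.instModuleResidueFieldOfAlgebra

section Model

variable {F E : Type u} [Field F] [Finite F] [Field E] [Algebra F E]

theorem weil_abs (hK : IsFunctionField F E) :
    |(Nat.card {P : Place F E // P.deg = 1} : ℝ) - ((Nat.card F : ℝ) + 1)| ≤
      2 * genus F E * Real.sqrt (Nat.card F) := by
  obtain ⟨α, hα, hnorm⟩ := FFLib.norm_sq_root hK
  have h := FFLib.placeCount_eq hK.1 α hα (n := 1) le_rfl
  rw [FFLib.placeCount_one] at h
  simp only [pow_one] at h
  have hre := congrArg Complex.re h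
  simp at hre
  have hb : |(∑ i, α i).re| ≤ 2 * genus F E * Real.sqrt (Nat.card F) := by
    refine (Complex.abs_re_le_norm _).trans ((norm_sum_le _ _).trans (le_of_eq ?_))
    rw [Finset.sum_congr rfl (g := fun _ => Real.sqrt (Nat.card F)) fun i _ => by
      rw [← hnorm i, Real.sqrt_sq (norm_nonneg _)]]
    simp
  rw [hre]
  rw [abs_le] at hb ⊢
  simp at hb
  constructor <;> linarith

variable {x y : E} {h : (F[X])[X]} {D d : ℕ} (hev : ev x y h = 0) (hmon : h.Monic)
  (hD : ∀ i, (h.coeff i).natDegree ≤ D) (hd : h.natDegree ≤ d) (hxt : Transcendental F x)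
  (hgen : ∀ z : E, ∃ p q : (F[X])[X], ev x y q ≠ 0 ∧ z * ev x y q = ev x y p)
  (hker : ∀ a b : F, h.evalEval a b = 0 → ∀ p, ev x y p = 0 → p.evalEval a b = 0)
  (hK : IsFunctionField F E) (hW0 : ev x y h.derivative ≠ 0)

include hev hmon hD hd hxt hgen hker hK hW0

theorem abs_card_sub_le :
    |(Nat.card {p : F × F // h.evalEval p.1 p.2 = 0} : ℝ) - Nat.card F| ≤
      ((2 * D * d ^ 2 + 1 + 2 * ((D + D * d + 1) * d) : ℕ) : ℝ) * Real.sqrt (Nat.card F) := by
  classical
  obtain ⟨hF, he0, hed, -⟩ := isFF_and_finrank_le hev hmon hxt hgen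
  let W : (F[X])[X] := h.derivative
  let M : ℕ := D + D * d
  let A : Divisor F E := FFLib.poles x
  have hWD : ∀ i, (W.coeff i).natDegree ≤ D := fun i => by
    simp only [W, coeff_derivative]
    refine natDegree_mul_le.trans ?_
    rw [show ((i : F[X]) + 1).natDegree = 0 from by
      rw [show ((i : F[X]) + 1) = C ((i : F) + 1) by simp]; exact natDegree_C _, add_zero]
    exact hD _
  have hWd : W.natDegree ≤ d := (natDegree_derivative_le h).trans (by omega)
  have hWle : ∀ P : Place F E, P.1 (ev x y W) ≤ exp ((M : ℤ) * A P) :=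
    fun P => val_ev_le hF hev hmon hD W hWD hWd P
  let T : Divisor F E := (M : ℤ) • A + FunFld.div F (ev x y W) + A
  have hT0 : ∀ P : Place F E, 0 ≤ ((M : ℤ) • A + FunFld.div F (ev x y W)) P := fun P => by
    have := (FFLib.val_le_exp_iff P hW0 _).mp (hWle P)
    rw [Finsupp.add_apply, Finsupp.smul_apply, smul_eq_mul, FFLib.div_apply hF]
    linarith
  have hTnn : ∀ P, 0 ≤ T P := fun P => by
    have := hT0 P
    have := FFLib.poles_nonneg (k := F) x P
    simp only [T, A, Finsupp.add_apply, Finsupp.coe_zero, Pi.zero_apply] at *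
    linarith
  have hTdeg : T.deg = (M + 1 : ℕ) * (Module.finrank F⟮x⟯ E : ℤ) := by
    simp only [T, FFLib.Divisor.deg_add, FFLib.deg_zsmul, FFLib.deg_div hF, A, FFLib.deg_poles hF hxt]
    push_cast; ring
  let badP : Finset (Place F E) := T.support.filter fun P => 1 ≤ T P
  have hbad : badP.card ≤ (M + 1) * d := by
    have h1 : (badP.card : ℤ) ≤ T.deg := by
      rw [Divisor.deg, Finsupp.sum]
      calc (badP.card : ℤ) = ∑ P ∈ badP, (1 : ℤ) := by simp
        _ ≤ ∑ P ∈ badP, T P * (P.deg : ℤ) := Finset.sum_le_sum fun P hP =>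
            one_le_mul_of_one_le_of_one_le (Finset.mem_filter.mp hP).2 (by exact_mod_cast FFLib.deg_pos hF P)
        _ ≤ ∑ P ∈ T.support, T P * (P.deg : ℤ) :=
            Finset.sum_le_sum_of_subset_of_nonneg (Finset.filter_subset _ _) fun P _ _ =>
              mul_nonneg (hTnn P) (Nat.cast_nonneg _)
    rw [hTdeg] at h1
    have h2 : ((M + 1 : ℕ) : ℤ) * (Module.finrank F⟮x⟯ E : ℤ) ≤ (((M + 1) * d : ℕ) : ℤ) := by
      exact_mod_cast Nat.mul_le_mul_left (M + 1) (hed.trans hd)
    exact_mod_cast h1.trans h2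
  let N := {p : F × F // h.evalEval p.1 p.2 = 0}
  let N1 := {P : Place F E // P.deg = 1}
  have hfin1 : Finite N1 := by
    have h0 := FFLib.finite_deg_dvd hF (N := 1) one_pos
    simp only [Nat.dvd_one] at h0
    exact h0.to_subtype
  -- every point lies under a place
  have hplace : ∀ p : N, ∃ P : Place F E, P.1 (x - algebraMap F E p.1.1) < 1 ∧ P.1 (y - algebraMap F E p.1.2) < 1 :=
    fun p => exists_place_over hev hmon hxt hgen (hker _ _ p.2)
  choose pl hplx hply using hplace
  have hcongr : ∀ (P : Place F E) (z : E) (a a' : F), P.1 (z - algebraMap F E a) < 1 →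
      P.1 (z - algebraMap F E a') < 1 → a = a' := by
    intro P z a a' h1 h2
    by_contra hne
    have hne0 : a' - a ≠ 0 := sub_ne_zero.mpr (Ne.symm hne)
    have h3 : P.1 (algebraMap F E (a' - a)) < 1 := by
      rw [map_sub, show algebraMap F E a' - algebraMap F E a =
        (z - algebraMap F E a) - (z - algebraMap F E a') by ring]
      exact (P.1.map_sub _ _).trans_lt (max_lt h1 h2)
    exact h3.ne (le_antisymm (P.2.1 _) (by
      have := P.2.1 (a' - a)⁻¹
      rw [map_inv₀, map_inv₀, inv_le_one₀ (zero_lt_iff.mpr ((Valuation.ne_zero_iff _).mpr ((_root_.map_ne_zero _).mpr hne0)))] at this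
      exact this))
  have hinj : Function.Injective pl := fun p q hpq => by
    refine Subtype.ext (Prod.ext ?_ ?_)
    · exact hcongr (pl p) x _ _ (hplx p) (hpq ▸ hplx q)
    · exact hcongr (pl p) y _ _ (hply p) (hpq ▸ hply q)
  have himg : ∀ p : N, pl p ∈ badP ∨ (pl p).deg = 1 := fun p => by
    by_cases hWp : W.evalEval p.1.1 p.1.2 = 0
    · left
      have hlt := val_ev_sub_lt (hplx p) (hply p) W
      rw [hWp, map_zero, sub_zero] at hlt
      have hpos := (FFLib.val_lt_one_iff (pl p) hW0).mp hlt
      have hA0 : 0 ≤ A (pl p) := FFLib.poles_nonneg x (pl p)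
      have hT : 1 ≤ T (pl p) := by
        simp only [T, Finsupp.add_apply, Finsupp.smul_apply, smul_eq_mul, FFLib.div_apply hF]
        nlinarith
      exact Finset.mem_filter.mpr ⟨Finsupp.mem_support_iff.mpr (by omega), hT⟩
    · exact Or.inr (deg_eq_one hev hWp p.2 hxt hgen hF (hplx p) (hply p))
  have hupper : Nat.card N ≤ badP.card + Nat.card N1 := by
    let f : N → badP ⊕ N1 := fun p =>
      if h1 : pl p ∈ badP then Sum.inl ⟨pl p, h1⟩ else Sum.inr ⟨pl p, (himg p).resolve_left h1⟩
    have hf : Function.Injective f := fun p q hpq => hinj (by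
      simp only [f] at hpq
      split_ifs at hpq
      · exact congrArg Subtype.val (Sum.inl.inj hpq)
      · exact congrArg Subtype.val (Sum.inr.inj hpq))
    refine (Nat.card_le_card_of_injective f hf).trans ?_
    rw [Nat.card_sum, Nat.card_eq_fintype_card (α := badP), Fintype.card_coe]
  -- unbad rational places give points
  have hgood : ∀ P : {P : N1 // P.1 ∉ badP}, ∃ p : N, P.1.1.1 (x - algebraMap F E p.1.1) < 1 ∧
      P.1.1.1 (y - algebraMap F E p.1.2) < 1 ∧ W.evalEval p.1.1 p.1.2 ≠ 0 := by
    rintro ⟨⟨P, hP⟩, hb⟩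
    have hb' : T P < 1 := lt_of_not_ge fun hge =>
      hb (Finset.mem_filter.mpr ⟨Finsupp.mem_support_iff.mpr (ne_of_gt (lt_of_lt_of_le zero_lt_one hge)), hge⟩)
    have h0 := hT0 P
    have hA0 : 0 ≤ A P := FFLib.poles_nonneg x P
    simp only [T, Finsupp.add_apply] at hb'
    have hAP : A P = 0 := by rw [Finsupp.add_apply] at h0; omega
    have hxP : P.1 x ≤ 1 := by
      refine (FFLib.val_le_exp_poles hF x P).trans (le_of_eq ?_)
      rw [show FFLib.poles x P = 0 from hAP, exp_zero]
    have hyP : P.1 y ≤ 1 := by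
      refine (val_y_le hF hev hmon hD P).trans (le_of_eq ?_)
      rw [show FFLib.poles x P = 0 from hAP, mul_zero, exp_zero]
    obtain ⟨s, hs⟩ := exists_const_of_deg_one P hP x hxP
    obtain ⟨t, ht⟩ := exists_const_of_deg_one P hP y hyP
    refine ⟨⟨(s, t), ?_⟩, hs, ht, fun h0W => ?_⟩
    · by_contra hne
      exact ev_ne_zero hs ht hne hev
    · have hlt := val_ev_sub_lt hs ht W
      rw [h0W, map_zero, sub_zero] at hlt
      have hpos := (FFLib.val_lt_one_iff P hW0).mp hlt
      rw [Finsupp.smul_apply, smul_eq_mul, hAP, mul_zero, FFLib.div_apply hF] at hb'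
      simp only [W] at hpos hb'
      omega
  choose pt hptx hpty hptW using hgood
  have hlower : Nat.card N1 ≤ badP.card + Nat.card N := by
    let g : N1 → badP ⊕ N := fun P =>
      if h1 : P.1 ∈ badP then Sum.inl ⟨P.1, h1⟩ else Sum.inr (pt ⟨P, h1⟩)
    have hg : Function.Injective g := fun P Q hPQ => by
      simp only [g] at hPQ
      split_ifs at hPQ with h1 h2 h3
      · exact Subtype.ext (Subtype.mk.inj (Sum.inl.inj hPQ))
      · have h := Sum.inr.inj hPQ
        have hW := hptW ⟨P, h1⟩
        have hz := (pt ⟨P, h1⟩).2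
        have hx' := hptx ⟨Q, h3⟩
        have hy' := hpty ⟨Q, h3⟩
        rw [← h] at hx' hy'
        exact Subtype.ext (place_unique hev hW hz hxt hgen (hptx ⟨P, h1⟩) (hpty ⟨P, h1⟩) hx' hy')
    refine (Nat.card_le_card_of_injective g hg).trans ?_
    rw [Nat.card_sum, Nat.card_eq_fintype_card (α := badP), Fintype.card_coe]
  have hg := genus_le_of_monic hev hmon hD hd hxt hgen hK
  have hw := weil_abs hK
  have hg' : (genus F E : ℝ) ≤ ((D * d ^ 2 : ℕ) : ℝ) := by exact_mod_cast hg
  have hu : (Nat.card N : ℝ) ≤ ((M + 1) * d : ℕ) + Nat.card N1 := by exact_mod_cast hupper.trans (by omega)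
  have hl : (Nat.card N1 : ℝ) ≤ ((M + 1) * d : ℕ) + Nat.card N := by exact_mod_cast hlower.trans (by omega)
  have hs1 : 1 ≤ Real.sqrt (Nat.card F) :=
    Real.one_le_sqrt.mpr (by exact_mod_cast (Nat.one_le_iff_ne_zero.mpr Nat.card_pos.ne'))
  have h5 : (((M + 1) * d : ℕ) : ℝ) ≤ (((M + 1) * d : ℕ) : ℝ) * Real.sqrt (Nat.card F) :=
    le_mul_of_one_le_right (by positivity) hs1
  have h6 := mul_le_mul_of_nonneg_right hg' (Real.sqrt_nonneg (Nat.card F : ℝ))
  rw [abs_le] at hw ⊢
  push_cast [M] at *
  constructor <;> nlinarith [hw.1, hw.2, hu, hl, h5, h6, hs1]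

end Model

/-- **The Weil bound for an absolutely irreducible plane curve.** -/
theorem curve_card (D d : ℕ) : ∃ c : ℕ, ∀ (F : Type u) [Field F] [Finite F] (Ω : Type u) [Field Ω] [IsAlgClosed Ω]
    (ι : F →+* Ω) (h : (F[X])[X]), h.Monic → h.natDegree ≤ d → (∀ i, (h.coeff i).natDegree ≤ D) →
    h.derivative ≠ 0 → Irreducible (bmap ι h) →
    |(Nat.card {p : F × F // h.evalEval p.1 p.2 = 0} : ℝ) - Nat.card F| ≤ c * Real.sqrt (Nat.card F) := by
  refine ⟨2 * D * d ^ 2 + 1 + 2 * ((D + D * d + 1) * d), fun F _ _ Ω _ _ ι h hmon hd hD hder hirrΩ => ?_⟩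
  letI : Algebra F Ω := ι.toAlgebra
  have hmapinj : ∀ {K : Type u} [Field K] (f : F →+* K), Function.Injective (bmap f) := fun f =>
    Polynomial.map_injective _ (Polynomial.map_injective _ f.injective)
  have hirr : Irreducible h := by
    refine (Monic.irreducible_iff_natDegree hmon).mpr ⟨fun h1 => ?_, fun f g hf hg hfg => ?_⟩
    · rw [h1, map_one] at hirrΩ
      exact hirrΩ.not_isUnit isUnit_one
    · have := ((bmap_monic ι hmon).irreducible_iff_natDegree.mp hirrΩ).2 _ _ (bmap_monic ι hf) (bmap_monic ι hg)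
        (by rw [← map_mul, hfg])
      rwa [bmap_natDegree ι hf, bmap_natDegree ι hg] at this
  let g : (RatFunc F)[X] := h.map (algebraMap F[X] (RatFunc F))
  have hg : Irreducible g := hmon.irreducible_iff_irreducible_map_fraction_map.mp hirr
  haveI : Fact (Irreducible g) := ⟨hg⟩
  let E := AdjoinRoot g
  let x : E := algebraMap (RatFunc F) E RatFunc.X
  let y : E := AdjoinRoot.root g
  have hx : ∀ p : F[X], aeval x p = algebraMap (RatFunc F) E (algebraMap F[X] (RatFunc F) p) := fun p => by
    simp only [x, aeval_algebraMap_apply]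
    rw [← RatFunc.algebraMap_X, aeval_algebraMap_apply, aeval_X_left_apply]
  have hev' : ∀ p : (F[X])[X], ev x y p = AdjoinRoot.mk g (p.map (algebraMap F[X] (RatFunc F))) := fun p => by
    rw [← AdjoinRoot.aeval_eq, aeval_def, eval₂_map]
    exact congrArg (fun f => eval₂ f y p) (RingHom.ext hx)
  have hxt : Transcendental F x := by
    rw [transcendental_iff]
    intro p hp
    rw [hx, map_eq_zero_iff _ (algebraMap (RatFunc F) E).injective,
      map_eq_zero_iff _ (RatFunc.algebraMap_injective F)] at hp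
    exact hp
  have hker : ∀ p, ev x y p = 0 → h ∣ p := fun p hp => by
    rw [hev', AdjoinRoot.mk_eq_zero] at hp
    exact (Polynomial.map_dvd_map _ (RatFunc.algebraMap_injective F) hmon).mp hp
  have hev : ev x y h = 0 := by rw [hev' h, AdjoinRoot.mk_self]
  have hgen : ∀ z : E, ∃ p q : (F[X])[X], ev x y q ≠ 0 ∧ z * ev x y q = ev x y p := fun z => by
    obtain ⟨q, rfl⟩ := AdjoinRoot.mk_surjective z
    obtain ⟨c, hc, hc'⟩ := IsLocalization.integerNormalization_spec (nonZeroDivisors F[X]) q
    refine ⟨IsLocalization.integerNormalization (nonZeroDivisors F[X]) q, C c, ?_, ?_⟩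
    · rw [ev_C, hx]
      exact (map_ne_zero_iff _ (algebraMap (RatFunc F) E).injective).mpr
        ((map_ne_zero_iff _ (RatFunc.algebraMap_injective F)).mpr (nonZeroDivisors.ne_zero hc))
    · rw [hev' (IsLocalization.integerNormalization _ q), hc', hev', Polynomial.map_C,
        ← IsScalarTower.algebraMap_smul (RatFunc F) c q, ← C_mul', map_mul, mul_comm]
  have hW0 : ev x y h.derivative ≠ 0 := fun h0 => by
    refine hder (eq_zero_of_dvd_of_degree_lt (hker _ h0) (degree_derivative_lt hmon.ne_zero))
  have hconst : IsFunctionField F E := by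
    obtain ⟨hF, -, -, -⟩ := isFF_and_finrank_le hev hmon hxt hgen
    refine ⟨hF, fun z hz => ?_⟩
    obtain ⟨p, q, hq, hpq⟩ := hgen z
    -- the relation over the field generated by `z`
    let K := F⟮z⟯
    haveI : Algebra.IsAlgebraic F K := IntermediateField.isAlgebraic_adjoin_simple hz.isIntegral
    let j : K →ₐ[F] Ω := IsAlgClosed.lift
    have hirrK : Irreducible (bmap (algebraMap F K) h) := by
      refine (bmap_monic _ hmon).irreducible_iff_natDegree.mpr ⟨fun h1 => ?_, fun f g hf hg hfg => ?_⟩
      · have h2 := congrArg (bmap j.toRingHom) h1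
        rw [map_one, bmap_bmap, show j.toRingHom.comp (algebraMap F K) = ι from j.comp_algebraMap] at h2
        rw [h2] at hirrΩ
        exact hirrΩ.not_isUnit isUnit_one
      · have := ((bmap_monic ι hmon).irreducible_iff_natDegree.mp hirrΩ).2 _ _ (bmap_monic j.toRingHom hf)
          (bmap_monic j.toRingHom hg) (by
            rw [← map_mul, hfg, bmap_bmap, show j.toRingHom.comp (algebraMap F K) = ι from j.comp_algebraMap])
        rwa [bmap_natDegree _ hf, bmap_natDegree _ hg] at this
    have hmonK := bmap_monic (algebraMap F K) hmon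
    have hevK : ∀ r : (F[X])[X], ev (F := K) x y (bmap (algebraMap F K) r) = ev x y r := fun r => by
      simp only [ev, coe_eval₂RingHom, coe_mapRingHom, eval₂_map]
      congr 1
      refine Polynomial.ringHom_ext (fun s => ?_) ?_
      · simp only [RingHom.comp_apply, coe_mapRingHom, Polynomial.map_C, AlgHom.toRingHom_eq_coe, RingHom.coe_coe, aeval_C]
        exact (IsScalarTower.algebraMap_apply F K E s).symm
      · simp only [RingHom.comp_apply, coe_mapRingHom, Polynomial.map_X, AlgHom.toRingHom_eq_coe, RingHom.coe_coe, aeval_X]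
    have hxtK : Transcendental K x := hxt.extendScalars K
    obtain ⟨c, hc, r, s, hrs⟩ : ∃ c : K[X], c ≠ 0 ∧ ∃ r s : (K[X])[X],
        r * bmap (algebraMap F K) h + s * (bmap (algebraMap F K) p -
          C (C (AdjoinSimple.gen F z)) * bmap (algebraMap F K) q) = C c ∨
        bmap (algebraMap F K) h ∣ bmap (algebraMap F K) p -
          C (C (AdjoinSimple.gen F z)) * bmap (algebraMap F K) q := by
      set w := bmap (algebraMap F K) p - C (C (AdjoinSimple.gen F z)) * bmap (algebraMap F K) q
      let φ : K[X] →+* RatFunc K := algebraMap _ _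
      have hirrR : Irreducible ((bmap (algebraMap F K) h).map φ) :=
        hmonK.irreducible_iff_irreducible_map_fraction_map.mp hirrK
      have hco := hirrR.coprime_iff_not_dvd (n := w.map φ)
      by_cases hdvd : (bmap (algebraMap F K) h).map φ ∣ w.map φ
      · exact ⟨1, one_ne_zero, 0, 0, Or.inr ((Polynomial.map_dvd_map _ (RatFunc.algebraMap_injective K) hmonK).mp hdvd)⟩
      obtain ⟨a, b, hab⟩ := hco.mpr hdvd
      obtain ⟨c₁, hc₁, ha⟩ := IsLocalization.integerNormalization_spec (nonZeroDivisors K[X]) a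
      obtain ⟨c₂, hc₂, hb⟩ := IsLocalization.integerNormalization_spec (nonZeroDivisors K[X]) b
      refine ⟨c₁ * c₂, mul_ne_zero (nonZeroDivisors.ne_zero hc₁) (nonZeroDivisors.ne_zero hc₂),
        C c₂ * IsLocalization.integerNormalization (nonZeroDivisors K[X]) a,
        C c₁ * IsLocalization.integerNormalization (nonZeroDivisors K[X]) b, Or.inl ?_⟩
      apply Polynomial.map_injective φ (RatFunc.algebraMap_injective K)
      simp only [Polynomial.map_add, Polynomial.map_mul, Polynomial.map_C, φ, ha, hb]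
      rw [← IsScalarTower.algebraMap_smul (RatFunc K) c₁ a, ← IsScalarTower.algebraMap_smul (RatFunc K) c₂ b,
        ← C_mul', ← C_mul', map_mul, map_mul]
      linear_combination (C ((algebraMap K[X] (RatFunc K)) c₁) * C ((algebraMap K[X] (RatFunc K)) c₂)) * hab
    have hw0 : ev (F := K) x y (bmap (algebraMap F K) p - C (C (AdjoinSimple.gen F z)) * bmap (algebraMap F K) q) = 0 := by
      rw [map_sub, map_mul, ev_CC, hevK, hevK, AdjoinSimple.algebraMap_gen, hpq, sub_self]
    rcases hrs with hrs | hdvd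
    · refine absurd ?_ hc
      have := congrArg (ev (F := K) x y) hrs
      rw [map_add, map_mul, map_mul, hevK, hev, hw0, mul_zero, mul_zero, add_zero, ev_C] at this
      exact (transcendental_iff.mp hxtK) c this.symm
    · -- reduce modulo `h` over `F`
      have h1 : bmap (algebraMap F K) (p %ₘ h) = C (C (AdjoinSimple.gen F z)) * bmap (algebraMap F K) (q %ₘ h) := by
        have h2 := (modByMonic_eq_zero_iff_dvd hmonK).mpr hdvd
        rw [sub_modByMonic, sub_eq_zero, ← smul_eq_C_mul, smul_modByMonic, smul_eq_C_mul] at h2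
        simpa only [coe_mapRingHom, map_modByMonic _ hmon] using h2
      have hqne : q %ₘ h ≠ 0 := fun h0 => hq (by
        rw [← modByMonic_add_div q h, h0, zero_add, map_mul, hev, zero_mul])
      obtain ⟨i, hi⟩ : ∃ i, (q %ₘ h).coeff i ≠ 0 := by
        by_contra hall
        push Not at hall
        exact hqne (Polynomial.ext fun i => by rw [hall, coeff_zero])
      obtain ⟨l, hl⟩ : ∃ l, ((q %ₘ h).coeff i).coeff l ≠ 0 := by
        by_contra hall
        push Not at hall
        exact hi (Polynomial.ext fun l => by rw [hall, coeff_zero])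
      have h3 := congrArg (fun r : (K[X])[X] => (r.coeff i).coeff l) h1
      simp only [coe_mapRingHom, coeff_map, coeff_C_mul] at h3
      refine ⟨((p %ₘ h).coeff i).coeff l / ((q %ₘ h).coeff i).coeff l, ?_⟩
      rw [map_div₀, div_eq_iff (by simpa using hl), ← AdjoinSimple.algebraMap_gen F z,
        IsScalarTower.algebraMap_apply F K E, IsScalarTower.algebraMap_apply F K E, ← map_mul, h3]
  exact abs_card_sub_le hev hmon hD hd hxt hgen
    (fun a b hab p hp => by obtain ⟨q, rfl⟩ := hker p hp; rw [evalEval_mul, hab, zero_mul]) hconst hW0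

end Groth.Agent.ZH85.LangWeil
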