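import Groth.Agent.ZH85.LangWeil.Hyper
import Groth.Agent.ZH85.PtLow.FiniteField
import Groth.Agent.GeomField.Field
import Groth.Agent.ZetaLib.SchemeCount
import Mathlib.RingTheory.KrullDimension.NonZeroDivisors

/-! Points of a geometrically irreducible affine domain. -/

noncomputable section

set_option linter.unusedSectionVars false
set_option linter.style.haveILetI false

universe u

open Polynomial TensorProduct

namespace Groth.Agent.ZH85.LangWeil

open Groth.Agent.ZH85.PtLow

/-- A model splits over no field which is linearly disjoint from it. -/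
theorem natDegree_factor_eq_zero {k L : Type u} [Field k] [Field L] [Algebra k L] (K : Type u) [Field K] [Algebra k K]
    [IsDomain (L ⊗[k] K)] {n : ℕ}
    {x : Fin n → L} {y : L} {g : (MvPolynomial (Fin n) k)[X]} (hM : IsModel x y g)
    {f₀ h₀ : (MvPolynomial (Fin n) K)[X]} (hf₀m : f₀.Monic) (hh₀m : h₀.Monic)
    (hmap : f₀ * h₀ = g.map (MvPolynomial.map (algebraMap k K))) :
    f₀.natDegree = 0 ∨ h₀.natDegree = 0 := by
  classical
  let iL : L →ₐ[k] L ⊗[k] K := Algebra.TensorProduct.includeLeft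
  let xT : Fin n → L ⊗[k] K := fun i => x i ⊗ₜ[k] (1 : K)
  let ρ : MvPolynomial (Fin n) K →+* L ⊗[k] K :=
    MvPolynomial.eval₂Hom (Algebra.TensorProduct.includeRight (R := k) (A := L)).toRingHom xT
  let Φ : (MvPolynomial (Fin n) K)[X] →+* L ⊗[k] K := eval₂RingHom ρ (y ⊗ₜ[k] (1 : K))
  have hΦg : Φ (g.map (MvPolynomial.map (algebraMap k K))) = 0 := by
    have hcomp : ρ.comp (MvPolynomial.map (algebraMap k K)) =
        iL.toRingHom.comp (MvPolynomial.aeval x).toRingHom := by
      refine MvPolynomial.ringHom_ext (fun c => ?_) fun i => ?_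
      · simp only [ρ, RingHom.comp_apply, MvPolynomial.map_C, MvPolynomial.eval₂Hom_C, AlgHom.toRingHom_eq_coe,
          RingHom.coe_coe, MvPolynomial.aeval_C, AlgHom.commutes]
      · simp [ρ, xT, iL]
    have h1 := congrArg iL.toRingHom hM.root
    rw [map_zero, pev, coe_eval₂RingHom, hom_eval₂] at h1
    rw [coe_eval₂RingHom, eval₂_map, hcomp]
    exact h1
  have hker : ∀ p : (MvPolynomial (Fin n) K)[X], p.natDegree < g.natDegree → Φ p = 0 → p = 0 := by
    intro p hdeg hp
    refine Polynomial.ext fun i => MvPolynomial.ext _ _ fun m => ?_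
    rw [coeff_zero, MvPolynomial.coeff_zero]
    refine (Module.forall_dual_apply_eq_zero_iff k _).mp fun lam => ?_
    let Λ : L ⊗[k] K →ₗ[k] L := (TensorProduct.rid k L).toLinearMap ∘ₗ lam.lTensor L
    let pl : (MvPolynomial (Fin n) k)[X] :=
      ∑ j ∈ p.support, C (∑ e ∈ (p.coeff j).support, MvPolynomial.monomial e (lam ((p.coeff j).coeff e))) * X ^ j
    have hterm : ∀ (c : K) (e : Fin n →₀ ℕ) (j : ℕ), Φ (C (MvPolynomial.monomial e c) * X ^ j) =
        (MvPolynomial.aeval x (MvPolynomial.monomial e (1 : k)) * y ^ j) ⊗ₜ[k] c := by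
      intro c e j
      simp only [Φ, ρ, xT, coe_eval₂RingHom, eval₂_mul, eval₂_C, eval₂_pow, eval₂_X, MvPolynomial.eval₂Hom_monomial,
        MvPolynomial.aeval_monomial, map_one, one_mul, Algebra.TensorProduct.tmul_pow, one_pow,
        AlgHom.toRingHom_eq_coe, RingHom.coe_coe, Algebra.TensorProduct.includeRight_apply]
      rw [show (e.prod fun i a => (x i ^ a) ⊗ₜ[k] (1 : K)) = (e.prod fun i a => x i ^ a) ⊗ₜ[k] (1 : K) from
        (map_finsuppProd iL _ _).symm,
        Algebra.TensorProduct.tmul_mul_tmul, Algebra.TensorProduct.tmul_mul_tmul, one_mul, mul_one, mul_one]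
    have hΛ : Λ (Φ p) = pev x y pl := by
      conv_lhs => rw [p.as_sum_support_C_mul_X_pow]
      simp only [map_sum, pl]
      refine Finset.sum_congr rfl fun j _ => ?_
      conv_lhs => rw [(p.coeff j).as_sum, map_sum, Finset.sum_mul, map_sum, map_sum]
      rw [map_mul, map_sum, Finset.sum_mul]
      refine Finset.sum_congr rfl fun e _ => ?_
      rw [hterm]
      simp only [Λ, LinearMap.comp_apply, LinearMap.lTensor_tmul, LinearEquiv.coe_coe, TensorProduct.rid_tmul]
      rw [pev_C, map_pow, pev_X, MvPolynomial.aeval_monomial, MvPolynomial.aeval_monomial, map_one, one_mul,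
        Algebra.smul_def]
      ring
    rw [hp, map_zero] at hΛ
    have hpl : pl = 0 := by
      refine eq_zero_of_dvd_of_degree_lt (hM.ker pl hΛ.symm) ((degree_sum_le _ _).trans_lt ?_)
      rw [Finset.sup_lt_iff (bot_lt_iff_ne_bot.mpr (fun h => hM.monic.ne_zero (degree_eq_bot.mp h)))]
      intro j hj
      refine (degree_C_mul_X_pow_le _ _).trans_lt ?_
      rw [degree_eq_natDegree hM.monic.ne_zero]
      exact_mod_cast (le_natDegree_of_mem_supp j hj).trans_lt hdeg
    have := congrArg (fun q : (MvPolynomial (Fin n) k)[X] => (q.coeff i).coeff m) hpl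
    simp only [pl, finsetSum_coeff, coeff_C_mul_X_pow, coeff_zero, MvPolynomial.coeff_zero] at this
    rw [Finset.sum_ite_eq p.support i] at this
    by_cases hi : i ∈ p.support
    · rw [if_pos hi, MvPolynomial.coeff_sum] at this
      simp only [MvPolynomial.coeff_monomial] at this
      rw [Finset.sum_ite_eq'] at this
      by_cases hm : m ∈ (p.coeff i).support
      · rwa [if_pos hm] at this
      · rw [MvPolynomial.notMem_support_iff.mp hm, map_zero]
    · rw [notMem_support_iff.mp hi, MvPolynomial.coeff_zero, map_zero]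
  have hdeg : f₀.natDegree + h₀.natDegree = g.natDegree := by
    rw [← hf₀m.natDegree_mul hh₀m, hmap, hM.monic.natDegree_map]
  have hprod : Φ f₀ * Φ h₀ = 0 := by rw [← map_mul, hmap, hΦg]
  by_contra hcon
  push Not at hcon
  rcases mul_eq_zero.mp hprod with h0 | h0
  · exact hf₀m.ne_zero (hker f₀ (by omega) h0)
  · exact hh₀m.ne_zero (hker h₀ (by omega) h0)

set_option backward.isDefEq.respectTransparency false in
/-- A model of a field in which the constants are algebraically closed is absolutely irreducible. -/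
theorem irreducible_of_const_closed {k L : Type u} [Field k] [PerfectField k] [Field L] [Algebra k L] {n : ℕ}
    {x : Fin n → L} {y : L} {g : (MvPolynomial (Fin n) k)[X]} (hM : IsModel x y g)
    (hcl : ∀ z : L, IsAlgebraic k z → z ∈ Set.range (algebraMap k L)) :
    Irreducible (g.map (MvPolynomial.map (algebraMap k (AlgebraicClosure k)))) := by
  classical
  set kb := AlgebraicClosure k
  set gb := g.map (MvPolynomial.map (algebraMap k kb)) with hgb
  have hgm : gb.Monic := hM.monic.map _
  have hg0 : g.natDegree ≠ 0 := fun h0 => by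
    have h1 := hM.root
    rw [eq_one_of_monic_natDegree_zero hM.monic h0, map_one] at h1
    exact one_ne_zero h1
  refine hgm.irreducible_iff_natDegree.mpr ⟨fun h1 => ?_, fun f h hf hh hfh => ?_⟩
  · have := congrArg natDegree h1
    rw [hM.monic.natDegree_map, natDegree_one] at this
    exact hg0 this
  -- a finite field of definition of the factors
  let cs : (MvPolynomial (Fin n) kb)[X] → Finset kb := fun p =>
    p.support.biUnion fun i => (p.coeff i).support.image fun m => (p.coeff i).coeff m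
  let K : IntermediateField k kb := IntermediateField.adjoin k ((cs f ∪ cs h : Finset kb) : Set kb)
  haveI : FiniteDimensional k K :=
    IntermediateField.finiteDimensional_adjoin fun c _ => Algebra.IsIntegral.isIntegral c
  haveI : Algebra.IsSeparable k K := inferInstance
  have hlift : ∀ p : (MvPolynomial (Fin n) kb)[X], (cs p : Set kb) ⊆ (cs f ∪ cs h : Finset kb) → p.Monic →
      ∃ p₀ : (MvPolynomial (Fin n) K)[X], p₀.map (MvPolynomial.map (algebraMap K kb)) = p ∧ p₀.Monic := by
    intro p hsub hp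
    have hmem : p ∈ lifts (MvPolynomial.map (σ := Fin n) (algebraMap K kb)) := by
      rw [lifts_iff_coeff_lifts]
      intro i
      refine (MvPolynomial.mem_range_map_iff_coeffs_subset).mpr ?_
      intro c hc
      obtain ⟨m, hm, rfl⟩ := MvPolynomial.mem_coeffs_iff.mp hc
      refine ⟨⟨_, IntermediateField.subset_adjoin k _ (hsub (Finset.mem_biUnion.mpr ⟨i, ?_,
        Finset.mem_image.mpr ⟨m, hm, rfl⟩⟩))⟩, rfl⟩
      rw [mem_support_iff]
      intro h0
      simp [h0] at hm
    obtain ⟨p₀, hp₀, -, hp₀m⟩ := lifts_and_natDegree_eq_and_monic hmem hp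
    exact ⟨p₀, hp₀, hp₀m⟩
  obtain ⟨f₀, hf₀, hf₀m⟩ := hlift f (Finset.coe_subset.mpr Finset.subset_union_left) hf
  obtain ⟨h₀, hh₀, hh₀m⟩ := hlift h (Finset.coe_subset.mpr Finset.subset_union_right) hh
  haveI : IsDomain (L ⊗[k] K) := GeomField.isDomain_tensor_of_separable K L fun a ha => hcl a ha.isIntegral.isAlgebraic
  have hmap : f₀ * h₀ = g.map (MvPolynomial.map (algebraMap k K)) := by
    apply Polynomial.map_injective _ (MvPolynomial.map_injective (σ := Fin n) _ (algebraMap K kb).injective)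
    rw [Polynomial.map_mul, hf₀, hh₀, hfh, hgb, Polynomial.map_map]
    congr 1
    refine MvPolynomial.ringHom_ext (fun c => ?_) fun i => ?_ <;> simp [← IsScalarTower.algebraMap_apply]
  have := natDegree_factor_eq_zero K hM hf₀m hh₀m hmap
  rwa [← hf₀, ← hh₀, hf₀m.natDegree_map, hh₀m.natDegree_map]

variable (k : Type u) [Field k] [Finite k] (A : Type u) [CommRing A] [IsDomain A] [Algebra k A]
  [Algebra.FiniteType k A]

/-- The homomorphisms killing a nonzero element are few. -/
theorem card_killing_le (r : ℕ) (hr : ringKrullDim A = (r + 1 : ℕ)) (a : A) (ha : a ≠ 0) :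
    ∃ c : ℕ, ∀ (F : Type u) [Field F] [Algebra k F] [Finite F],
      Nat.card {φ : A →ₐ[k] F // φ a = 0} ≤ c * Nat.card F ^ r := by
  let R := A ⧸ Ideal.span {a}
  let ι : AlgebraicGeometry.Spec (CommRingCat.of R) ⟶ AlgebraicGeometry.Spec (CommRingCat.of (ULift.{u} ℤ)) :=
    AlgebraicGeometry.Spec.map (CommRingCat.ofHom
      (((algebraMap k R).comp ((Int.castRingHom k).comp ULift.ringEquiv.toRingHom))))
  haveI : AlgebraicGeometry.LocallyOfFiniteType ι := by
    rw [AlgebraicGeometry.HasRingHomProperty.Spec_iff (P := @AlgebraicGeometry.LocallyOfFiniteType)]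
    exact RingHom.FiniteType.comp (RingHom.finiteType_algebraMap.mpr
      (Algebra.FiniteType.of_surjective (Ideal.Quotient.mkₐ k (Ideal.span {a})) Ideal.Quotient.mk_surjective))
      (ZetaLib.finiteType_of_finite _)
  have hdim : topologicalKrullDim ↥(AlgebraicGeometry.Spec (CommRingCat.of R)) ≤ (r : ℕ) := by
    show topologicalKrullDim (PrimeSpectrum R) ≤ _
    rw [PrimeSpectrum.topologicalKrullDim_eq_ringKrullDim]
    have h1 := ringKrullDim_quotient_succ_le_of_nonZeroDivisor (mem_nonZeroDivisors_of_ne_zero ha)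
    rw [hr, Nat.cast_add, Nat.cast_one] at h1
    exact (ENat.WithBot.add_le_add_one_right_iff).mp h1
  obtain ⟨p, hp⟩ := CharP.exists k
  obtain ⟨c, p₀, -, hb⟩ := ZetaLib.exists_bound ι r hdim
  refine ⟨c, fun F _ _ _ => ?_⟩
  have : CharP F p := charP_of_injective_algebraMap (algebraMap k F).injective p
  obtain ⟨hfin, h2, -⟩ := hb p (CharP.char_is_prime k p) F
  haveI := hfin
  refine le_trans ?_ h2
  refine Nat.card_le_card_of_injective (fun φ => AlgebraicGeometry.Spec.map (CommRingCat.ofHom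
    (Ideal.Quotient.lift (Ideal.span {a}) φ.1.toRingHom fun z hz => by
      obtain ⟨w, rfl⟩ := Ideal.mem_span_singleton'.mp hz
      rw [map_mul]
      exact mul_eq_zero_of_right _ φ.2))) fun φ ψ h => ?_
  refine Subtype.ext (AlgHom.ext fun z => ?_)
  exact RingHom.congr_fun (congrArg CommRingCat.Hom.hom (AlgebraicGeometry.Spec.map_injective h)) (Ideal.Quotient.mk _ z)

/-- **Lang–Weil for a geometrically irreducible affine variety.** -/
theorem domain_card (r : ℕ) (hr : ringKrullDim A = r)
    (hcl : ∀ z : FractionRing A, IsAlgebraic k z → z ∈ Set.range (algebraMap k (FractionRing A))) :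
    ∃ c : ℕ, ∀ (F : Type u) [Field F] [Algebra k F] [Finite F],
      |(Nat.card (A →ₐ[k] F) : ℝ) - (Nat.card F : ℝ) ^ r| ≤
        c * ((Nat.card F : ℝ) ^ r / Real.sqrt (Nat.card F)) := by
  classical
  let L := FractionRing A
  let j : A →ₐ[k] L := IsScalarTower.toAlgHom k A L
  have hj : Function.Injective j := IsFractionRing.injective A L
  rcases r with _ | s
  · -- a field of constants
    haveI : Ring.KrullDimLE 0 A := ⟨le_of_eq hr⟩
    have hfield : IsField A := Ring.KrullDimLE.isField_of_isDomain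
    have hsurj : Function.Surjective (algebraMap k A) := fun z => by
      letI := hfield.toField
      haveI : Module.Finite k A := finite_of_finite_type_of_isJacobsonRing k A
      obtain ⟨c, hc⟩ := hcl (j z) ((Algebra.IsAlgebraic.isAlgebraic z).algHom j)
      exact ⟨c, hj (by rw [AlgHom.commutes]; exact hc)⟩
    refine ⟨0, fun F _ _ _ => ?_⟩
    let e : k ≃ₐ[k] A := AlgEquiv.ofBijective (Algebra.ofId k A) ⟨(algebraMap k A).injective, hsurj⟩
    have : Unique (A →ₐ[k] F) :=
      { default := (Algebra.ofId k F).comp e.symm.toAlgHom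
        uniq := fun φ => AlgHom.ext fun z => by
          obtain ⟨c, rfl⟩ := hsurj z
          simp [AlgHom.commutes] }
    simp
  haveI : PerfectField k := inferInstance
  haveI : Algebra.EssFiniteType A L := Algebra.EssFiniteType.of_isLocalization L (nonZeroDivisors A)
  haveI : Algebra.EssFiniteType k L := Algebra.EssFiniteType.comp k A L
  obtain ⟨n, x, y, g, hn, hM⟩ := exists_model_perfect k L
  have hnr : n = s + 1 := by
    obtain ⟨m, hm, hmt⟩ := VarDim.exists_dim_eq_trdeg k A
    have hL : Algebra.trdeg k L = Algebra.trdeg k A := by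
      have h := lift_trdeg_add_eq k A L
      haveI : Algebra.IsAlgebraic A L := IsLocalization.isAlgebraic L (nonZeroDivisors A)
      rw [trdeg_eq_zero (R := A) (A := L), Cardinal.lift_zero, add_zero, Cardinal.lift_id,
        Cardinal.lift_id] at h
      exact h.symm
    rw [hr] at hm
    have h1 : (n : Cardinal.{u}) = m := by rw [hn, hL, hmt]
    have h2 : s + 1 = m := by exact_mod_cast hm
    have h3 : n = m := by exact_mod_cast h1
    omega
  subst hnr
  have hfrac : ∀ z : L, ∃ p q : A, j q ≠ 0 ∧ z * j q = j p := fun z => by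
    obtain ⟨p, q, hq, rfl⟩ := IsFractionRing.div_surjective (A := A) z
    have hq' : algebraMap A L q ≠ 0 := (map_ne_zero_iff _ hj).mpr (nonZeroDivisors.ne_zero hq)
    exact ⟨p, q, hq', div_mul_cancel₀ _ hq'⟩
  have hder : g.derivative ≠ 0 := fun h0 => hM.sep (by rw [h0, map_zero])
  obtain ⟨c₁, hc₁⟩ := hyper_card hM.monic hder (irreducible_of_const_closed hM hcl)
  obtain ⟨B, hB, hΦ⟩ := hM.exists_homs j hj hfrac
  -- an open piece of `A` on which the coordinates are defined
  obtain ⟨gens, hgens⟩ := Algebra.FiniteType.out (R := k) (A := A)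
  choose pT cT hcT hpT using fun z : A => hM.gen (j z)
  let T : Finset L := Finset.univ.image x ∪ insert y (gens.image fun z => (MvPolynomial.aeval x (cT z))⁻¹)
  choose pn qn hqn hpn using hfrac
  let a₀ : A := ∏ t ∈ T, qn t
  have ha₀ : a₀ ≠ 0 := Finset.prod_ne_zero_iff.mpr fun t _ h0 => hqn t (by rw [h0, map_zero])
  obtain ⟨c₂, hc₂⟩ := card_killing_le k A s hr a₀ ha₀
  let Loc := Localization.Away a₀
  let θ : Loc →ₐ[k] L := IsLocalization.liftAlgHom (M := Submonoid.powers a₀) (f := j) (by
    rintro ⟨_, m, rfl⟩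
    exact isUnit_iff_ne_zero.mpr (by rw [map_pow]; exact pow_ne_zero m ((map_ne_zero_iff _ hj).mpr ha₀)))
  have hθ : ∀ z, θ (algebraMap A Loc z) = j z := fun z => IsLocalization.lift_eq _ z
  have hθi : Function.Injective θ := by
    show Function.Injective (IsLocalization.lift _)
    rw [IsLocalization.lift_injective_iff]
    refine fun u v => ⟨fun h => ?_, fun h => congrArg _ (hj h)⟩
    have := congrArg θ h
    rwa [hθ, hθ] at this
  have hT : ∀ t ∈ T, ∃ l : Loc, θ l = t := fun t ht => by
    obtain ⟨w, hw⟩ : qn t ∣ a₀ := Finset.dvd_prod_of_mem qn ht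
    refine ⟨IsLocalization.mk' Loc (pn t * w) (⟨a₀, Submonoid.mem_powers a₀⟩ : Submonoid.powers a₀), ?_⟩
    refine mul_right_cancel₀ ((map_ne_zero_iff _ hj).mpr ha₀) ?_
    rw [← hθ a₀, ← map_mul, IsLocalization.mk'_spec Loc, hθ, hθ, hw, map_mul, map_mul, ← hpn t, mul_assoc]
  have hxT : ∀ i, x i ∈ T := fun i => Finset.mem_union_left _ (Finset.mem_image_of_mem _ (Finset.mem_univ i))
  choose xl hxl using fun i => hT _ (hxT i)
  obtain ⟨yl, hyl⟩ := hT y (Finset.mem_union_right _ (Finset.mem_insert_self _ _))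
  have hev : ∀ p : (MvPolynomial (Fin (s + 1)) k)[X],
      θ (eval₂ (MvPolynomial.aeval xl).toRingHom yl p) = pev x y p := fun p => by
    show θ.toRingHom _ = _
    rw [hom_eval₂]
    show eval₂ _ (θ yl) p = _
    rw [hyl]
    refine congrArg (fun f => eval₂ f y p) (RingHom.ext fun c => ?_)
    show θ (MvPolynomial.aeval xl c) = MvPolynomial.aeval x c
    rw [MvPolynomial.comp_aeval_apply]
    exact congrArg (fun v => MvPolynomial.aeval v c) (funext hxl)
  have hgl : eval₂ (MvPolynomial.aeval xl).toRingHom yl g = 0 := hθi (by rw [hev, hM.root, map_zero])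
  refine ⟨c₁ + c₂ + g.natDegree * B.totalDegree, fun F _ _ _ => ?_⟩
  have := Fintype.ofFinite F
  let M := {p : (Fin (s + 1) → F) × F // (g.map (MvPolynomial.aeval p.1).toRingHom).eval p.2 = 0}
  haveI : Finite (A →ₐ[k] F) := Finite.of_injective (fun φ => fun z : gens => φ z.1) fun φ ψ h => by
    refine AlgHom.ext_of_adjoin_eq_top hgens fun z hz => ?_
    exact congrFun h ⟨z, hz⟩
  -- the upper bound
  let H₀ := {φ : A →ₐ[k] F // φ a₀ ≠ 0}
  have hext : ∀ φ : H₀, ∃ ψ : Loc →ₐ[k] F, ∀ z, ψ (algebraMap A Loc z) = φ.1 z := fun φ =>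
    ⟨IsLocalization.liftAlgHom (M := Submonoid.powers a₀) (f := φ.1) (by
      rintro ⟨_, m, rfl⟩
      exact isUnit_iff_ne_zero.mpr (by rw [map_pow]; exact pow_ne_zero m φ.2)), fun z => IsLocalization.lift_eq _ z⟩
  choose ψ hψ using hext
  have hψev : ∀ φ (p : (MvPolynomial (Fin (s + 1)) k)[X]),
      ψ φ (eval₂ (MvPolynomial.aeval xl).toRingHom yl p) =
        (p.map (MvPolynomial.aeval (fun i => ψ φ (xl i))).toRingHom).eval (ψ φ yl) := fun φ p => by
    show (ψ φ).toRingHom _ = _
    rw [hom_eval₂, eval_map]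
    refine congrArg (fun f => eval₂ f (ψ φ yl) p) (RingHom.ext fun c => ?_)
    exact MvPolynomial.comp_aeval_apply xl (ψ φ) c
  let toM : H₀ → M := fun φ => ⟨(fun i => ψ φ (xl i), ψ φ yl), by rw [← hψev, hgl, map_zero]⟩
  have htoM : Function.Injective toM := fun φ φ' h => by
    have hx : (fun i => ψ φ (xl i)) = fun i => ψ φ' (xl i) := congrArg (fun m => m.1.1) h
    have hy : ψ φ yl = ψ φ' yl := congrArg (fun m => m.1.2) h
    refine Subtype.ext (AlgHom.ext_of_adjoin_eq_top hgens fun z hz => ?_)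
    obtain ⟨l, hl⟩ := hT _ (Finset.mem_union_right _ (Finset.mem_insert_of_mem
      (Finset.mem_image_of_mem (fun z => (MvPolynomial.aeval x (cT z))⁻¹) hz)))
    have h1 : algebraMap A Loc z = eval₂ (MvPolynomial.aeval xl).toRingHom yl (pT z) * l := hθi (by
      rw [hθ, map_mul, hev, hl, ← hpT, mul_assoc, mul_inv_cancel₀ (hcT z), mul_one])
    have h2 : eval₂ (MvPolynomial.aeval xl).toRingHom yl (C (cT z)) * l = 1 := hθi (by
      rw [map_mul, hev, pev_C, hl, mul_inv_cancel₀ (hcT z), map_one])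
    rw [← hψ φ, ← hψ φ', h1, map_mul, map_mul, hψev, hψev, hx, hy]
    congr 1
    have e1 := congrArg (ψ φ) h2
    have e2 := congrArg (ψ φ') h2
    rw [map_mul, map_one, hψev, hx, hy] at e1
    rw [map_mul, map_one, hψev] at e2
    exact mul_left_cancel₀ (left_ne_zero_of_mul_eq_one e2) (e1.trans e2.symm)
  have hu : Nat.card (A →ₐ[k] F) ≤ Nat.card M + c₂ * Nat.card F ^ s := by
    have h1 : Nat.card (A →ₐ[k] F) = Nat.card {φ : A →ₐ[k] F // φ a₀ = 0} + Nat.card H₀ := by
      rw [← Nat.card_sum]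
      exact Nat.card_congr (Equiv.sumCompl _).symm
    have h2 := Nat.card_le_card_of_injective toM htoM
    have h3 := hc₂ F
    omega
  -- the lower bound
  obtain ⟨Φ, hΦi⟩ := hΦ F
  have hbad : (Nat.card {m : M // MvPolynomial.aeval m.1.1 B = 0} : ℝ) ≤
      (g.natDegree * B.totalDegree : ℕ) * (Nat.card F : ℝ) ^ (s + 1) / Nat.card F := by
    let BF := MvPolynomial.map (algebraMap k F) B
    have hBF : BF ≠ 0 := fun h0 => hB (by
      rw [MvPolynomial.map_injective _ (algebraMap k F).injective (h0.trans (map_zero _).symm), map_zero])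
    let Z := {v : Fin (s + 1) → F // MvPolynomial.eval v BF = 0}
    let E : {m : M // MvPolynomial.aeval m.1.1 B = 0} ≃
        Σ v : Z, {b : F // (g.map (MvPolynomial.aeval v.1).toRingHom).eval b = 0} :=
      { toFun := fun m => ⟨⟨m.1.1.1, by rw [MvPolynomial.eval_map]; exact m.2⟩, ⟨m.1.1.2, m.1.2⟩⟩
        invFun := fun q => ⟨⟨(q.1.1, q.2.1), q.2.2⟩, by
          have := q.1.2
          rw [MvPolynomial.eval_map] at this
          exact this⟩ }
    have h1 : Nat.card {m : M // MvPolynomial.aeval m.1.1 B = 0} ≤ g.natDegree * Nat.card Z := by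
      rw [Nat.card_congr E, Nat.card_sigma]
      refine (Finset.sum_le_sum (g := fun _ => g.natDegree) fun v _ => ?_).trans (by
        simp [Finset.sum_const, Nat.card_eq_fintype_card, mul_comm])
      have hm' := hM.monic.map (MvPolynomial.aeval v.1).toRingHom
      have hset : {b : F | (g.map (MvPolynomial.aeval v.1).toRingHom).eval b = 0} ⊆
          ↑(g.map (MvPolynomial.aeval v.1).toRingHom).roots.toFinset := fun b hb => by
        rw [Finset.mem_coe, Multiset.mem_toFinset, mem_roots hm'.ne_zero]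
        exact hb
      refine (Set.ncard_le_ncard hset (Finset.finite_toSet _)).trans ?_
      rw [Set.ncard_coe_finset]
      exact (Multiset.toFinset_card_le _).trans ((card_roots' _).trans natDegree_map_le)
    refine (Nat.cast_le.mpr h1).trans ?_
    rw [Nat.cast_mul, Nat.cast_mul, mul_assoc, mul_div_assoc]
    gcongr
    refine (card_zeros_le hBF).trans ?_
    gcongr
    exact map_totalDegree_le _ _
  have hl : Nat.card M ≤ Nat.card (A →ₐ[k] F) + Nat.card {m : M // MvPolynomial.aeval m.1.1 B = 0} := by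
    rw [← Nat.card_congr (Equiv.sumCompl fun m : M => MvPolynomial.aeval m.1.1 B = 0), Nat.card_sum, add_comm]
    refine Nat.add_le_add_right (Nat.card_le_card_of_injective (fun m => Φ ⟨m.1.1, m.1.2, m.2⟩) fun m m' h => ?_) _
    exact Subtype.ext (Subtype.ext (Subtype.mk.inj (hΦi h)))
  set Q : ℝ := (Nat.card F : ℝ) with hQ
  have hQ1 : 1 ≤ Q := by rw [hQ]; exact_mod_cast (Nat.card_pos : 0 < Nat.card F)
  have hQ0 : 0 < Q := by linarith
  have hQS : Q ^ (s + 1) / Q ≤ Q ^ (s + 1) / Real.sqrt Q := by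
    gcongr
    exact Real.sqrt_le_left hQ0.le |>.mpr (by nlinarith)
  have hu' : (Nat.card (A →ₐ[k] F) : ℝ) ≤ Nat.card M + c₂ * (Q ^ (s + 1) / Real.sqrt Q) := by
    have h1 : (Nat.card (A →ₐ[k] F) : ℝ) ≤ (Nat.card M + c₂ * Nat.card F ^ s : ℕ) := by exact_mod_cast hu
    refine h1.trans ?_
    push_cast
    rw [← hQ]
    refine add_le_add le_rfl (mul_le_mul_of_nonneg_left (le_trans ?_ hQS) (Nat.cast_nonneg _))
    rw [pow_succ, mul_div_assoc, div_self hQ0.ne', mul_one]
  have hl' : (Nat.card M : ℝ) ≤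
      Nat.card (A →ₐ[k] F) + (g.natDegree * B.totalDegree : ℕ) * (Q ^ (s + 1) / Real.sqrt Q) := by
    have h1 : (Nat.card M : ℝ) ≤
        Nat.card (A →ₐ[k] F) + Nat.card {m : M // MvPolynomial.aeval m.1.1 B = 0} := by exact_mod_cast hl
    refine h1.trans (add_le_add le_rfl (hbad.trans ?_))
    rw [mul_div_assoc]
    exact mul_le_mul_of_nonneg_left hQS (Nat.cast_nonneg _)
  have hM' : -((c₁ : ℝ) * (Q ^ (s + 1) / Real.sqrt Q)) ≤ (Nat.card M : ℝ) - Q ^ (s + 1) ∧
      (Nat.card M : ℝ) - Q ^ (s + 1) ≤ (c₁ : ℝ) * (Q ^ (s + 1) / Real.sqrt Q) := abs_le.mp (hc₁ F)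
  have hpos : (0 : ℝ) ≤ Q ^ (s + 1) / Real.sqrt Q := by positivity
  rw [abs_le]
  push_cast at hl' ⊢
  have q1 : (0 : ℝ) ≤ c₁ * (Q ^ (s + 1) / Real.sqrt Q) := mul_nonneg (Nat.cast_nonneg _) hpos
  have q2 : (0 : ℝ) ≤ c₂ * (Q ^ (s + 1) / Real.sqrt Q) := mul_nonneg (Nat.cast_nonneg _) hpos
  have q3 : (0 : ℝ) ≤ (g.natDegree : ℝ) * B.totalDegree * (Q ^ (s + 1) / Real.sqrt Q) :=
    mul_nonneg (by positivity) hpos
  constructor <;> nlinarith [hM'.1, hM'.2, hu', hl', q1, q2, q3]

end Groth.Agent.ZH85.LangWeil
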