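import Mathlib.Algebra.MvPolynomial.SchwartzZippel
import Mathlib.SetTheory.Cardinal.Finite
import Mathlib.Analysis.SpecialFunctions.Pow.Real

/-! Counting zeros of a polynomial over a finite field. -/

noncomputable section

universe u

namespace Groth.Agent.ZH85.LangWeil

/-- **Schwartz–Zippel** for the whole field. -/
theorem card_zeros_mul_le {F : Type u} [Field F] [Finite F] {n : ℕ} {p : MvPolynomial (Fin n) F} (hp : p ≠ 0) :
    Nat.card {x : Fin n → F // MvPolynomial.eval x p = 0} * Nat.card F ≤ p.totalDegree * Nat.card F ^ n := by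
  classical
  have := Fintype.ofFinite F
  have h := MvPolynomial.schwartz_zippel_totalDegree hp (Finset.univ : Finset F)
  rw [Fintype.piFinset_univ, Finset.card_univ, ← Nat.card_eq_fintype_card (α := F)] at h
  have hq : (0 : NNRat) < (Nat.card F : NNRat) := by exact_mod_cast Nat.card_pos
  rw [div_le_div_iff₀ (pow_pos hq n) hq, ← Fintype.card_subtype, ← Nat.card_eq_fintype_card] at h
  exact_mod_cast h

/-- The real form of the bound. -/
theorem card_zeros_le {F : Type u} [Field F] [Finite F] {n : ℕ} {p : MvPolynomial (Fin n) F} (hp : p ≠ 0) :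
    (Nat.card {x : Fin n → F // MvPolynomial.eval x p = 0} : ℝ) ≤
      p.totalDegree * (Nat.card F : ℝ) ^ n / Nat.card F := by
  rw [le_div_iff₀ (by exact_mod_cast Nat.card_pos)]
  exact_mod_cast card_zeros_mul_le hp

end Groth.Agent.ZH85.LangWeil
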