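import Groth.Agent.ZH85.LangWeil.AbsIrr
import Groth.Agent.ZH85.LangWeil.Curve
import Groth.Agent.ZH85.LangWeil.Zeros
import Groth.Agent.ZH85.PtLow.Lines

/-! Points on an absolutely irreducible hypersurface. -/

noncomputable section

set_option linter.unusedSectionVars false
set_option linter.style.haveILetI false

universe u

open Polynomial

namespace Groth.Agent.ZH85.LangWeil

theorem map_totalDegree_le {R S : Type*} [CommRing R] [CommRing S] {σ : Type*} (f : R →+* S)
    (p : MvPolynomial σ R) : (MvPolynomial.map f p).totalDegree ≤ p.totalDegree := by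
  classical
  refine Finset.sup_le fun m hm => ?_
  exact MvPolynomial.le_totalDegree (MvPolynomial.support_map_subset f p hm)

variable {k : Type u} [Field k] {s : ℕ}

theorem natDegree_lineHom_le {F : Type u} [Field F] (φ : k →+* F) (a w : Fin s → F)
    (c : MvPolynomial (Fin (s + 1)) k) : (lineHom φ a w c).natDegree ≤ c.totalDegree := by
  have h := PtLow.natDegree_eval₂_le (Fin.cons X fun i => C (a i) + C (w i) * X)
    (fun i => by
      induction i using Fin.cases with
      | zero => simp
      | succ i =>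
        rw [Fin.cons_succ]
        exact (natDegree_add_le _ _).trans (max_le (by simp) ((natDegree_C_mul_le _ _).trans (by simp))))
    (MvPolynomial.map φ c)
  rw [MvPolynomial.eval₂Hom_map_hom] at h
  exact h.trans (map_totalDegree_le φ c)

/-- **Lang–Weil for an absolutely irreducible hypersurface.** -/
theorem hyper_card [Finite k] {g : (MvPolynomial (Fin (s + 1)) k)[X]} (hm : g.Monic) (hder : g.derivative ≠ 0)
    (hirr : Irreducible (g.map (MvPolynomial.map (algebraMap k (AlgebraicClosure k))))) :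
    ∃ c : ℕ, ∀ (F : Type u) [Field F] [Algebra k F] [Finite F],
      |(Nat.card {p : (Fin (s + 1) → F) × F //
          (g.map (MvPolynomial.aeval p.1).toRingHom).eval p.2 = 0} : ℝ) - (Nat.card F : ℝ) ^ (s + 1)| ≤
        c * ((Nat.card F : ℝ) ^ (s + 1) / Real.sqrt (Nat.card F)) := by
  classical
  obtain ⟨Φ, hΦ, hloc⟩ := exists_line_locus hm hder hirr
  let D : ℕ := (Finset.range (g.natDegree + 1)).sup fun i => (g.coeff i).totalDegree
  obtain ⟨c₁, hc₁⟩ := curve_card.{u} D g.natDegree
  refine ⟨c₁ + Φ.totalDegree * (g.natDegree + 1), fun F _ _ _ => ?_⟩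
  have := Fintype.ofFinite F
  let d := g.natDegree
  let A := (Fin s → F) × (Fin s → F)
  let h : A → (F[X])[X] := fun e => g.map (lineHom (algebraMap k F) e.1 e.2)
  let N : A → ℕ := fun e => Nat.card {p : F × F // (h e).evalEval p.1 p.2 = 0}
  let M := {p : (Fin (s + 1) → F) × F // (g.map (MvPolynomial.aeval p.1).toRingHom).eval p.2 = 0}
  have hcoeff : ∀ e i, ((h e).coeff i).natDegree ≤ D := fun e i => by
    rw [coeff_map]
    refine (natDegree_lineHom_le _ _ _ _).trans ?_
    by_cases hi : i ≤ g.natDegree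
    · exact Finset.le_sup (f := fun i => (g.coeff i).totalDegree) (Finset.mem_range_succ_iff.mpr hi)
    · rw [coeff_eq_zero_of_natDegree_lt (not_le.mp hi)]; simp
  have hev : ∀ (e : A) (t b : F), (h e).evalEval t b =
      (g.map (MvPolynomial.aeval (R := k) (Fin.cons t fun i => e.1 i + e.2 i * t)).toRingHom).eval b := fun e t b => by
    have hcomp : (evalRingHom t).comp (lineHom (algebraMap k F) e.1 e.2) =
        (MvPolynomial.aeval (R := k) (Fin.cons t fun i => e.1 i + e.2 i * t)).toRingHom := RingHom.ext fun p => by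
      rw [RingHom.comp_apply, coe_evalRingHom, eval_lineHom]
      rfl
    rw [← map_evalRingHom_eval, Polynomial.map_map, hcomp]
  -- the lines through the points
  have hcount : ∑ e, N e = Fintype.card F ^ s * Nat.card M := by
    let E : (Σ e : A, {p : F × F // (h e).evalEval p.1 p.2 = 0}) ≃ (Fin s → F) × M :=
      { toFun := fun q => (q.1.2, ⟨(Fin.cons q.2.1.1 (fun i => q.1.1 i + q.1.2 i * q.2.1.1), q.2.1.2),
          (hev _ _ _).symm.trans q.2.2⟩)
        invFun := fun q => ⟨(fun i => q.2.1.1 i.succ - q.1 i * q.2.1.1 0, q.1), ⟨(q.2.1.1 0, q.2.1.2), by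
          rw [hev]
          convert q.2.2 using 5
          funext i
          induction i using Fin.cases <;> simp⟩⟩
        left_inv := by
          rintro ⟨⟨a, w⟩, ⟨⟨t, b⟩, hp⟩⟩
          apply Sigma.subtype_ext <;> simp
        right_inv := by
          rintro ⟨w, ⟨⟨x, b⟩, hp⟩⟩
          refine Prod.ext rfl (Subtype.ext (Prod.ext ?_ rfl))
          funext i
          induction i using Fin.cases <;> simp }
    have h1 := Nat.card_congr E
    rw [Nat.card_sigma, Nat.card_prod, Nat.card_fun, Nat.card_eq_fintype_card (α := Fin s), Fintype.card_fin,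
      Nat.card_eq_fintype_card (α := F)] at h1
    exact h1
  -- every line has at most `d q` points
  have htriv : ∀ e, N e ≤ Fintype.card F * d := fun e => by
    have hsub : ∀ t : F, {b : F | (h e).evalEval t b = 0}.ncard ≤ d := fun t => by
      have hm' : ((h e).map (evalRingHom t)).Monic := (hm.map _).map _
      have hset : {b : F | (h e).evalEval t b = 0} ⊆ ↑((h e).map (evalRingHom t)).roots.toFinset := fun b hb => by
        rw [Finset.mem_coe, Multiset.mem_toFinset, mem_roots hm'.ne_zero, IsRoot, map_evalRingHom_eval]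
        exact hb
      refine (Set.ncard_le_ncard hset (Finset.finite_toSet _)).trans ?_
      rw [Set.ncard_coe_finset]
      exact (Multiset.toFinset_card_le _).trans ((card_roots' _).trans (natDegree_map_le.trans natDegree_map_le))
    let E : {p : F × F // (h e).evalEval p.1 p.2 = 0} ≃ Σ t : F, {b : F // (h e).evalEval t b = 0} :=
      { toFun := fun p => ⟨p.1.1, p.1.2, p.2⟩
        invFun := fun p => ⟨(p.1, p.2.1), p.2.2⟩ }
    show Nat.card _ ≤ _
    rw [Nat.card_congr E, Nat.card_sigma]
    calc ∑ t : F, Nat.card {b : F // (h e).evalEval t b = 0} ≤ ∑ _t : F, d :=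
          Finset.sum_le_sum fun t _ => hsub t
      _ = Fintype.card F * d := by simp
  -- the bad lines
  let ΦF : MvPolynomial (Fin (s + s)) F :=
    MvPolynomial.rename finSumFinEquiv (MvPolynomial.map (algebraMap k F) Φ)
  have hΦF : ΦF ≠ 0 := fun h0 => hΦ (MvPolynomial.map_injective _ (algebraMap k F).injective
    (MvPolynomial.rename_injective _ finSumFinEquiv.injective (h0.trans (by simp))))
  let bad : Finset A := Finset.univ.filter fun e => MvPolynomial.eval₂ (algebraMap k F) (Sum.elim e.1 e.2) Φ = 0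
  have hgood : ∀ e ∉ bad, |(N e : ℝ) - Nat.card F| ≤ c₁ * Real.sqrt (Nat.card F) := fun e he => by
    let Ω := AlgebraicClosure F
    let ι := algebraMap F Ω
    have hne : MvPolynomial.eval₂ (ι.comp (algebraMap k F)) (Sum.elim (ι ∘ e.1) (ι ∘ e.2)) Φ ≠ 0 := by
      rw [← Sum.comp_elim, ← MvPolynomial.eval₂_comp_left, _root_.map_ne_zero]
      simpa [bad] using he
    obtain ⟨h1, h2⟩ := hloc Ω _ _ _ hne
    have hmap : g.map (lineHom (ι.comp (algebraMap k F)) (ι ∘ e.1) (ι ∘ e.2)) = bmap ι (h e) := by
      rw [coe_mapRingHom, Polynomial.map_map, lineHom_comp]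
    rw [hmap] at h1 h2
    refine hc₁ F Ω ι (h e) (hm.map _) natDegree_map_le (hcoeff e) (fun h0 => h2 ?_) h1
    rw [coe_mapRingHom, derivative_map, h0, Polynomial.map_zero]
  have hbad : (bad.card : ℝ) ≤ Φ.totalDegree * (Nat.card F : ℝ) ^ (s + s) / Nat.card F := by
    have h1 : bad.card ≤ Nat.card {x : Fin (s + s) → F // MvPolynomial.eval x ΦF = 0} := by
      rw [← Fintype.card_coe, ← Nat.card_eq_fintype_card]
      refine Nat.card_le_card_of_injective
        (fun e => ⟨Sum.elim e.1.1 e.1.2 ∘ finSumFinEquiv.symm, ?_⟩) fun e e' hee => ?_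
      · simp only [ΦF, MvPolynomial.eval_rename, Function.comp_assoc, Equiv.symm_comp_self, Function.comp_id,
          MvPolynomial.eval_map]
        exact (Finset.mem_filter.mp e.2).2
      · have h2 := congrArg (fun x => x.1 ∘ finSumFinEquiv) hee
        simp only [Function.comp_assoc, Equiv.symm_comp_self, Function.comp_id] at h2
        exact Subtype.ext (Prod.ext (funext fun i => congrFun h2 (Sum.inl i)) (funext fun i => congrFun h2 (Sum.inr i)))
    refine le_trans (by exact_mod_cast h1) ((card_zeros_le hΦF).trans ?_)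
    gcongr
    exact (MvPolynomial.totalDegree_rename_le _ _).trans (map_totalDegree_le _ _)
  -- summing
  set Q : ℝ := (Nat.card F : ℝ) with hQ
  have hQ1 : 1 ≤ Q := by rw [hQ]; exact_mod_cast (Nat.card_pos : 0 < Nat.card F)
  have hQ0 : 0 < Q := by linarith
  have hsq : 1 ≤ Real.sqrt Q := Real.one_le_sqrt.mpr hQ1
  have hcardA : (Fintype.card A : ℝ) = Q ^ (s + s) := by
    simp [A, hQ, Nat.card_eq_fintype_card, pow_add]
  have hsum : |∑ e, ((N e : ℝ) - Q)| ≤
      Q ^ (s + s) * (c₁ * Real.sqrt Q) + bad.card * ((d + 1 : ℕ) * Q) := by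
    refine (Finset.abs_sum_le_sum_abs _ _).trans ?_
    rw [← Finset.sum_compl_add_sum bad]
    refine add_le_add ?_ ?_
    · refine (Finset.sum_le_sum fun e he => hgood e (Finset.mem_compl.mp he)).trans ?_
      rw [Finset.sum_const, nsmul_eq_mul, ← hcardA]
      gcongr
      exact Finset.card_le_univ _
    · refine (Finset.sum_le_sum (g := fun _ => ((d + 1 : ℕ) : ℝ) * Q) fun e _ => ?_).trans (by simp [Finset.sum_const])
      have h1 : (N e : ℝ) ≤ (Fintype.card F * d : ℕ) := by exact_mod_cast htriv e
      rw [Nat.cast_mul, ← Nat.card_eq_fintype_card, ← hQ] at h1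
      rw [abs_le]
      push_cast
      have h2 : (0 : ℝ) ≤ N e := Nat.cast_nonneg _
      constructor <;> nlinarith
  have hMeq : (∑ e, ((N e : ℝ) - Q)) = Q ^ s * ((Nat.card M : ℝ) - Q ^ (s + 1)) := by
    rw [Finset.sum_sub_distrib, Finset.sum_const, nsmul_eq_mul, Finset.card_univ, hcardA, ← Nat.cast_sum, hcount]
    push_cast [hQ, Nat.card_eq_fintype_card]
    ring
  rw [hMeq, abs_mul, abs_of_pos (pow_pos hQ0 s)] at hsum
  have hbad' : (bad.card : ℝ) * ((d + 1 : ℕ) * Q) ≤ Φ.totalDegree * ((d + 1 : ℕ) : ℝ) * Q ^ (s + s) * Real.sqrt Q := by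
    have := mul_le_mul_of_nonneg_right hbad (show (0 : ℝ) ≤ (d + 1 : ℕ) * Q by positivity)
    refine this.trans ?_
    rw [show (Φ.totalDegree : ℝ) * Q ^ (s + s) / Q * (((d + 1 : ℕ) : ℝ) * Q) =
      Φ.totalDegree * ((d + 1 : ℕ) : ℝ) * Q ^ (s + s) by field_simp]
    exact le_mul_of_one_le_right (by positivity) hsq
  have hdiv : Q ^ (s + 1) / Real.sqrt Q = Q ^ s * Real.sqrt Q := by
    rw [div_eq_iff (by positivity), mul_assoc, Real.mul_self_sqrt hQ0.le, pow_succ]
  rw [hdiv]
  refine le_of_mul_le_mul_left (hsum.trans ((add_le_add le_rfl hbad').trans (le_of_eq ?_))) (pow_pos hQ0 s)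
  push_cast
  ring

end Groth.Agent.ZH85.LangWeil
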